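import Cfsg.Agent.H47.Fi24.Tab.RelDef

/-!
Checks of the relators (generated).
-/

set_option autoImplicit false
set_option maxRecDepth 100000
set_option linter.all false
set_option Elab.async false

namespace H47.Fi24.Tab

open H93.Coset

theorem rel16 : allRange 9600 600 nodeRel = true := by decide +kernel

theorem pz16 : data.powOK [6,4,1,9,7,3,2,1,10,11,8,5,0,1] 17 pwZ 9600 600 = true := by decide +kernel

theorem pe16 : Big.powEndOK data [8,5,0,1,2,3,4] 9 10 pwE 9600 600 = true := by decide +kernel

theorem rel17 : allRange 10200 600 nodeRel = true := by decide +kernel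

theorem pz17 : data.powOK [6,4,1,9,7,3,2,1,10,11,8,5,0,1] 17 pwZ 10200 600 = true := by decide +kernel

theorem pe17 : Big.powEndOK data [8,5,0,1,2,3,4] 9 10 pwE 10200 600 = true := by decide +kernel

theorem rel18 : allRange 10800 600 nodeRel = true := by decide +kernel

theorem pz18 : data.powOK [6,4,1,9,7,3,2,1,10,11,8,5,0,1] 17 pwZ 10800 600 = true := by decide +kernel

theorem pe18 : Big.powEndOK data [8,5,0,1,2,3,4] 9 10 pwE 10800 600 = true := by decide +kernel

theorem rel19 : allRange 11400 600 nodeRel = true := by decide +kernel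

theorem pz19 : data.powOK [6,4,1,9,7,3,2,1,10,11,8,5,0,1] 17 pwZ 11400 600 = true := by decide +kernel

theorem pe19 : Big.powEndOK data [8,5,0,1,2,3,4] 9 10 pwE 11400 600 = true := by decide +kernel

theorem rel20 : allRange 12000 600 nodeRel = true := by decide +kernel

theorem pz20 : data.powOK [6,4,1,9,7,3,2,1,10,11,8,5,0,1] 17 pwZ 12000 600 = true := by decide +kernel

theorem pe20 : Big.powEndOK data [8,5,0,1,2,3,4] 9 10 pwE 12000 600 = true := by decide +kernel

theorem rel21 : allRange 12600 600 nodeRel = true := by decide +kernel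

theorem pz21 : data.powOK [6,4,1,9,7,3,2,1,10,11,8,5,0,1] 17 pwZ 12600 600 = true := by decide +kernel

theorem pe21 : Big.powEndOK data [8,5,0,1,2,3,4] 9 10 pwE 12600 600 = true := by decide +kernel

theorem rel22 : allRange 13200 600 nodeRel = true := by decide +kernel

theorem pz22 : data.powOK [6,4,1,9,7,3,2,1,10,11,8,5,0,1] 17 pwZ 13200 600 = true := by decide +kernel

theorem pe22 : Big.powEndOK data [8,5,0,1,2,3,4] 9 10 pwE 13200 600 = true := by decide +kernel

theorem rel23 : allRange 13800 600 nodeRel = true := by decide +kernel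

theorem pz23 : data.powOK [6,4,1,9,7,3,2,1,10,11,8,5,0,1] 17 pwZ 13800 600 = true := by decide +kernel

theorem pe23 : Big.powEndOK data [8,5,0,1,2,3,4] 9 10 pwE 13800 600 = true := by decide +kernel

theorem rel24 : allRange 14400 600 nodeRel = true := by decide +kernel

theorem pz24 : data.powOK [6,4,1,9,7,3,2,1,10,11,8,5,0,1] 17 pwZ 14400 600 = true := by decide +kernel

theorem pe24 : Big.powEndOK data [8,5,0,1,2,3,4] 9 10 pwE 14400 600 = true := by decide +kernel

theorem rel25 : allRange 15000 600 nodeRel = true := by decide +kernel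

theorem pz25 : data.powOK [6,4,1,9,7,3,2,1,10,11,8,5,0,1] 17 pwZ 15000 600 = true := by decide +kernel

theorem pe25 : Big.powEndOK data [8,5,0,1,2,3,4] 9 10 pwE 15000 600 = true := by decide +kernel

theorem rel26 : allRange 15600 600 nodeRel = true := by decide +kernel

theorem pz26 : data.powOK [6,4,1,9,7,3,2,1,10,11,8,5,0,1] 17 pwZ 15600 600 = true := by decide +kernel

theorem pe26 : Big.powEndOK data [8,5,0,1,2,3,4] 9 10 pwE 15600 600 = true := by decide +kernel

theorem rel27 : allRange 16200 600 nodeRel = true := by decide +kernel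

theorem pz27 : data.powOK [6,4,1,9,7,3,2,1,10,11,8,5,0,1] 17 pwZ 16200 600 = true := by decide +kernel

theorem pe27 : Big.powEndOK data [8,5,0,1,2,3,4] 9 10 pwE 16200 600 = true := by decide +kernel

theorem rel28 : allRange 16800 600 nodeRel = true := by decide +kernel

theorem pz28 : data.powOK [6,4,1,9,7,3,2,1,10,11,8,5,0,1] 17 pwZ 16800 600 = true := by decide +kernel

theorem pe28 : Big.powEndOK data [8,5,0,1,2,3,4] 9 10 pwE 16800 600 = true := by decide +kernel

theorem rel29 : allRange 17400 600 nodeRel = true := by decide +kernel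

theorem pz29 : data.powOK [6,4,1,9,7,3,2,1,10,11,8,5,0,1] 17 pwZ 17400 600 = true := by decide +kernel

theorem pe29 : Big.powEndOK data [8,5,0,1,2,3,4] 9 10 pwE 17400 600 = true := by decide +kernel

theorem rel30 : allRange 18000 600 nodeRel = true := by decide +kernel

theorem pz30 : data.powOK [6,4,1,9,7,3,2,1,10,11,8,5,0,1] 17 pwZ 18000 600 = true := by decide +kernel

theorem pe30 : Big.powEndOK data [8,5,0,1,2,3,4] 9 10 pwE 18000 600 = true := by decide +kernel

theorem rel31 : allRange 18600 600 nodeRel = true := by decide +kernel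

theorem pz31 : data.powOK [6,4,1,9,7,3,2,1,10,11,8,5,0,1] 17 pwZ 18600 600 = true := by decide +kernel

theorem pe31 : Big.powEndOK data [8,5,0,1,2,3,4] 9 10 pwE 18600 600 = true := by decide +kernel

end H47.Fi24.Tab
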