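import Cfsg.Agent.H47.Fi24.Tab.RelDef

/-!
Checks of the relators (generated).
-/

set_option autoImplicit false
set_option maxRecDepth 100000
set_option linter.all false
set_option Elab.async false

namespace H47.Fi24.Tab

open H93.Coset

theorem rel160 : allRange 96000 600 nodeRel = true := by decide +kernel

theorem pz160 : data.powOK [6,4,1,9,7,3,2,1,10,11,8,5,0,1] 17 pwZ 96000 600 = true := by decide +kernel

theorem pe160 : Big.powEndOK data [8,5,0,1,2,3,4] 9 10 pwE 96000 600 = true := by decide +kernel

theorem rel161 : allRange 96600 600 nodeRel = true := by decide +kernel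

theorem pz161 : data.powOK [6,4,1,9,7,3,2,1,10,11,8,5,0,1] 17 pwZ 96600 600 = true := by decide +kernel

theorem pe161 : Big.powEndOK data [8,5,0,1,2,3,4] 9 10 pwE 96600 600 = true := by decide +kernel

theorem rel162 : allRange 97200 600 nodeRel = true := by decide +kernel

theorem pz162 : data.powOK [6,4,1,9,7,3,2,1,10,11,8,5,0,1] 17 pwZ 97200 600 = true := by decide +kernel

theorem pe162 : Big.powEndOK data [8,5,0,1,2,3,4] 9 10 pwE 97200 600 = true := by decide +kernel

theorem rel163 : allRange 97800 600 nodeRel = true := by decide +kernel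

theorem pz163 : data.powOK [6,4,1,9,7,3,2,1,10,11,8,5,0,1] 17 pwZ 97800 600 = true := by decide +kernel

theorem pe163 : Big.powEndOK data [8,5,0,1,2,3,4] 9 10 pwE 97800 600 = true := by decide +kernel

theorem rel164 : allRange 98400 600 nodeRel = true := by decide +kernel

theorem pz164 : data.powOK [6,4,1,9,7,3,2,1,10,11,8,5,0,1] 17 pwZ 98400 600 = true := by decide +kernel

theorem pe164 : Big.powEndOK data [8,5,0,1,2,3,4] 9 10 pwE 98400 600 = true := by decide +kernel

theorem rel165 : allRange 99000 600 nodeRel = true := by decide +kernel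

theorem pz165 : data.powOK [6,4,1,9,7,3,2,1,10,11,8,5,0,1] 17 pwZ 99000 600 = true := by decide +kernel

theorem pe165 : Big.powEndOK data [8,5,0,1,2,3,4] 9 10 pwE 99000 600 = true := by decide +kernel

theorem rel166 : allRange 99600 600 nodeRel = true := by decide +kernel

theorem pz166 : data.powOK [6,4,1,9,7,3,2,1,10,11,8,5,0,1] 17 pwZ 99600 600 = true := by decide +kernel

theorem pe166 : Big.powEndOK data [8,5,0,1,2,3,4] 9 10 pwE 99600 600 = true := by decide +kernel

theorem rel167 : allRange 100200 600 nodeRel = true := by decide +kernel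

theorem pz167 : data.powOK [6,4,1,9,7,3,2,1,10,11,8,5,0,1] 17 pwZ 100200 600 = true := by decide +kernel

theorem pe167 : Big.powEndOK data [8,5,0,1,2,3,4] 9 10 pwE 100200 600 = true := by decide +kernel

theorem rel168 : allRange 100800 600 nodeRel = true := by decide +kernel

theorem pz168 : data.powOK [6,4,1,9,7,3,2,1,10,11,8,5,0,1] 17 pwZ 100800 600 = true := by decide +kernel

theorem pe168 : Big.powEndOK data [8,5,0,1,2,3,4] 9 10 pwE 100800 600 = true := by decide +kernel

theorem rel169 : allRange 101400 600 nodeRel = true := by decide +kernel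

theorem pz169 : data.powOK [6,4,1,9,7,3,2,1,10,11,8,5,0,1] 17 pwZ 101400 600 = true := by decide +kernel

theorem pe169 : Big.powEndOK data [8,5,0,1,2,3,4] 9 10 pwE 101400 600 = true := by decide +kernel

theorem rel170 : allRange 102000 600 nodeRel = true := by decide +kernel

theorem pz170 : data.powOK [6,4,1,9,7,3,2,1,10,11,8,5,0,1] 17 pwZ 102000 600 = true := by decide +kernel

theorem pe170 : Big.powEndOK data [8,5,0,1,2,3,4] 9 10 pwE 102000 600 = true := by decide +kernel

theorem rel171 : allRange 102600 600 nodeRel = true := by decide +kernel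

theorem pz171 : data.powOK [6,4,1,9,7,3,2,1,10,11,8,5,0,1] 17 pwZ 102600 600 = true := by decide +kernel

theorem pe171 : Big.powEndOK data [8,5,0,1,2,3,4] 9 10 pwE 102600 600 = true := by decide +kernel

theorem rel172 : allRange 103200 600 nodeRel = true := by decide +kernel

theorem pz172 : data.powOK [6,4,1,9,7,3,2,1,10,11,8,5,0,1] 17 pwZ 103200 600 = true := by decide +kernel

theorem pe172 : Big.powEndOK data [8,5,0,1,2,3,4] 9 10 pwE 103200 600 = true := by decide +kernel

theorem rel173 : allRange 103800 600 nodeRel = true := by decide +kernel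

theorem pz173 : data.powOK [6,4,1,9,7,3,2,1,10,11,8,5,0,1] 17 pwZ 103800 600 = true := by decide +kernel

theorem pe173 : Big.powEndOK data [8,5,0,1,2,3,4] 9 10 pwE 103800 600 = true := by decide +kernel

theorem rel174 : allRange 104400 600 nodeRel = true := by decide +kernel

theorem pz174 : data.powOK [6,4,1,9,7,3,2,1,10,11,8,5,0,1] 17 pwZ 104400 600 = true := by decide +kernel

theorem pe174 : Big.powEndOK data [8,5,0,1,2,3,4] 9 10 pwE 104400 600 = true := by decide +kernel

theorem rel175 : allRange 105000 600 nodeRel = true := by decide +kernel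

theorem pz175 : data.powOK [6,4,1,9,7,3,2,1,10,11,8,5,0,1] 17 pwZ 105000 600 = true := by decide +kernel

theorem pe175 : Big.powEndOK data [8,5,0,1,2,3,4] 9 10 pwE 105000 600 = true := by decide +kernel

end H47.Fi24.Tab
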