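import Cfsg.Agent.H47.Fi24.Tab.RelDef

/-!
Checks of the relators (generated).
-/

set_option autoImplicit false
set_option maxRecDepth 100000
set_option linter.all false
set_option Elab.async false

namespace H47.Fi24.Tab

open H93.Coset

theorem rel176 : allRange 105600 600 nodeRel = true := by decide +kernel

theorem pz176 : data.powOK [6,4,1,9,7,3,2,1,10,11,8,5,0,1] 17 pwZ 105600 600 = true := by decide +kernel

theorem pe176 : Big.powEndOK data [8,5,0,1,2,3,4] 9 10 pwE 105600 600 = true := by decide +kernel

theorem rel177 : allRange 106200 600 nodeRel = true := by decide +kernel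

theorem pz177 : data.powOK [6,4,1,9,7,3,2,1,10,11,8,5,0,1] 17 pwZ 106200 600 = true := by decide +kernel

theorem pe177 : Big.powEndOK data [8,5,0,1,2,3,4] 9 10 pwE 106200 600 = true := by decide +kernel

theorem rel178 : allRange 106800 600 nodeRel = true := by decide +kernel

theorem pz178 : data.powOK [6,4,1,9,7,3,2,1,10,11,8,5,0,1] 17 pwZ 106800 600 = true := by decide +kernel

theorem pe178 : Big.powEndOK data [8,5,0,1,2,3,4] 9 10 pwE 106800 600 = true := by decide +kernel

theorem rel179 : allRange 107400 600 nodeRel = true := by decide +kernel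

theorem pz179 : data.powOK [6,4,1,9,7,3,2,1,10,11,8,5,0,1] 17 pwZ 107400 600 = true := by decide +kernel

theorem pe179 : Big.powEndOK data [8,5,0,1,2,3,4] 9 10 pwE 107400 600 = true := by decide +kernel

theorem rel180 : allRange 108000 600 nodeRel = true := by decide +kernel

theorem pz180 : data.powOK [6,4,1,9,7,3,2,1,10,11,8,5,0,1] 17 pwZ 108000 600 = true := by decide +kernel

theorem pe180 : Big.powEndOK data [8,5,0,1,2,3,4] 9 10 pwE 108000 600 = true := by decide +kernel

theorem rel181 : allRange 108600 600 nodeRel = true := by decide +kernel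

theorem pz181 : data.powOK [6,4,1,9,7,3,2,1,10,11,8,5,0,1] 17 pwZ 108600 600 = true := by decide +kernel

theorem pe181 : Big.powEndOK data [8,5,0,1,2,3,4] 9 10 pwE 108600 600 = true := by decide +kernel

theorem rel182 : allRange 109200 600 nodeRel = true := by decide +kernel

theorem pz182 : data.powOK [6,4,1,9,7,3,2,1,10,11,8,5,0,1] 17 pwZ 109200 600 = true := by decide +kernel

theorem pe182 : Big.powEndOK data [8,5,0,1,2,3,4] 9 10 pwE 109200 600 = true := by decide +kernel

theorem rel183 : allRange 109800 600 nodeRel = true := by decide +kernel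

theorem pz183 : data.powOK [6,4,1,9,7,3,2,1,10,11,8,5,0,1] 17 pwZ 109800 600 = true := by decide +kernel

theorem pe183 : Big.powEndOK data [8,5,0,1,2,3,4] 9 10 pwE 109800 600 = true := by decide +kernel

theorem rel184 : allRange 110400 600 nodeRel = true := by decide +kernel

theorem pz184 : data.powOK [6,4,1,9,7,3,2,1,10,11,8,5,0,1] 17 pwZ 110400 600 = true := by decide +kernel

theorem pe184 : Big.powEndOK data [8,5,0,1,2,3,4] 9 10 pwE 110400 600 = true := by decide +kernel

theorem rel185 : allRange 111000 600 nodeRel = true := by decide +kernel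

theorem pz185 : data.powOK [6,4,1,9,7,3,2,1,10,11,8,5,0,1] 17 pwZ 111000 600 = true := by decide +kernel

theorem pe185 : Big.powEndOK data [8,5,0,1,2,3,4] 9 10 pwE 111000 600 = true := by decide +kernel

theorem rel186 : allRange 111600 600 nodeRel = true := by decide +kernel

theorem pz186 : data.powOK [6,4,1,9,7,3,2,1,10,11,8,5,0,1] 17 pwZ 111600 600 = true := by decide +kernel

theorem pe186 : Big.powEndOK data [8,5,0,1,2,3,4] 9 10 pwE 111600 600 = true := by decide +kernel

theorem rel187 : allRange 112200 600 nodeRel = true := by decide +kernel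

theorem pz187 : data.powOK [6,4,1,9,7,3,2,1,10,11,8,5,0,1] 17 pwZ 112200 600 = true := by decide +kernel

theorem pe187 : Big.powEndOK data [8,5,0,1,2,3,4] 9 10 pwE 112200 600 = true := by decide +kernel

theorem rel188 : allRange 112800 600 nodeRel = true := by decide +kernel

theorem pz188 : data.powOK [6,4,1,9,7,3,2,1,10,11,8,5,0,1] 17 pwZ 112800 600 = true := by decide +kernel

theorem pe188 : Big.powEndOK data [8,5,0,1,2,3,4] 9 10 pwE 112800 600 = true := by decide +kernel

theorem rel189 : allRange 113400 600 nodeRel = true := by decide +kernel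

theorem pz189 : data.powOK [6,4,1,9,7,3,2,1,10,11,8,5,0,1] 17 pwZ 113400 600 = true := by decide +kernel

theorem pe189 : Big.powEndOK data [8,5,0,1,2,3,4] 9 10 pwE 113400 600 = true := by decide +kernel

theorem rel190 : allRange 114000 600 nodeRel = true := by decide +kernel

theorem pz190 : data.powOK [6,4,1,9,7,3,2,1,10,11,8,5,0,1] 17 pwZ 114000 600 = true := by decide +kernel

theorem pe190 : Big.powEndOK data [8,5,0,1,2,3,4] 9 10 pwE 114000 600 = true := by decide +kernel

theorem rel191 : allRange 114600 600 nodeRel = true := by decide +kernel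

theorem pz191 : data.powOK [6,4,1,9,7,3,2,1,10,11,8,5,0,1] 17 pwZ 114600 600 = true := by decide +kernel

theorem pe191 : Big.powEndOK data [8,5,0,1,2,3,4] 9 10 pwE 114600 600 = true := by decide +kernel

end H47.Fi24.Tab
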