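import Cfsg.Agent.H47.Fi24.Tab.RelDef

/-!
Checks of the relators (generated).
-/

set_option autoImplicit false
set_option maxRecDepth 100000
set_option linter.all false
set_option Elab.async false

namespace H47.Fi24.Tab

open H93.Coset

theorem rel192 : allRange 115200 600 nodeRel = true := by decide +kernel

theorem pz192 : data.powOK [6,4,1,9,7,3,2,1,10,11,8,5,0,1] 17 pwZ 115200 600 = true := by decide +kernel

theorem pe192 : Big.powEndOK data [8,5,0,1,2,3,4] 9 10 pwE 115200 600 = true := by decide +kernel

theorem rel193 : allRange 115800 600 nodeRel = true := by decide +kernel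

theorem pz193 : data.powOK [6,4,1,9,7,3,2,1,10,11,8,5,0,1] 17 pwZ 115800 600 = true := by decide +kernel

theorem pe193 : Big.powEndOK data [8,5,0,1,2,3,4] 9 10 pwE 115800 600 = true := by decide +kernel

theorem rel194 : allRange 116400 600 nodeRel = true := by decide +kernel

theorem pz194 : data.powOK [6,4,1,9,7,3,2,1,10,11,8,5,0,1] 17 pwZ 116400 600 = true := by decide +kernel

theorem pe194 : Big.powEndOK data [8,5,0,1,2,3,4] 9 10 pwE 116400 600 = true := by decide +kernel

theorem rel195 : allRange 117000 600 nodeRel = true := by decide +kernel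

theorem pz195 : data.powOK [6,4,1,9,7,3,2,1,10,11,8,5,0,1] 17 pwZ 117000 600 = true := by decide +kernel

theorem pe195 : Big.powEndOK data [8,5,0,1,2,3,4] 9 10 pwE 117000 600 = true := by decide +kernel

theorem rel196 : allRange 117600 600 nodeRel = true := by decide +kernel

theorem pz196 : data.powOK [6,4,1,9,7,3,2,1,10,11,8,5,0,1] 17 pwZ 117600 600 = true := by decide +kernel

theorem pe196 : Big.powEndOK data [8,5,0,1,2,3,4] 9 10 pwE 117600 600 = true := by decide +kernel

theorem rel197 : allRange 118200 600 nodeRel = true := by decide +kernel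

theorem pz197 : data.powOK [6,4,1,9,7,3,2,1,10,11,8,5,0,1] 17 pwZ 118200 600 = true := by decide +kernel

theorem pe197 : Big.powEndOK data [8,5,0,1,2,3,4] 9 10 pwE 118200 600 = true := by decide +kernel

theorem rel198 : allRange 118800 600 nodeRel = true := by decide +kernel

theorem pz198 : data.powOK [6,4,1,9,7,3,2,1,10,11,8,5,0,1] 17 pwZ 118800 600 = true := by decide +kernel

theorem pe198 : Big.powEndOK data [8,5,0,1,2,3,4] 9 10 pwE 118800 600 = true := by decide +kernel

theorem rel199 : allRange 119400 600 nodeRel = true := by decide +kernel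

theorem pz199 : data.powOK [6,4,1,9,7,3,2,1,10,11,8,5,0,1] 17 pwZ 119400 600 = true := by decide +kernel

theorem pe199 : Big.powEndOK data [8,5,0,1,2,3,4] 9 10 pwE 119400 600 = true := by decide +kernel

theorem rel200 : allRange 120000 600 nodeRel = true := by decide +kernel

theorem pz200 : data.powOK [6,4,1,9,7,3,2,1,10,11,8,5,0,1] 17 pwZ 120000 600 = true := by decide +kernel

theorem pe200 : Big.powEndOK data [8,5,0,1,2,3,4] 9 10 pwE 120000 600 = true := by decide +kernel

theorem rel201 : allRange 120600 600 nodeRel = true := by decide +kernel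

theorem pz201 : data.powOK [6,4,1,9,7,3,2,1,10,11,8,5,0,1] 17 pwZ 120600 600 = true := by decide +kernel

theorem pe201 : Big.powEndOK data [8,5,0,1,2,3,4] 9 10 pwE 120600 600 = true := by decide +kernel

theorem rel202 : allRange 121200 600 nodeRel = true := by decide +kernel

theorem pz202 : data.powOK [6,4,1,9,7,3,2,1,10,11,8,5,0,1] 17 pwZ 121200 600 = true := by decide +kernel

theorem pe202 : Big.powEndOK data [8,5,0,1,2,3,4] 9 10 pwE 121200 600 = true := by decide +kernel

theorem rel203 : allRange 121800 600 nodeRel = true := by decide +kernel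

theorem pz203 : data.powOK [6,4,1,9,7,3,2,1,10,11,8,5,0,1] 17 pwZ 121800 600 = true := by decide +kernel

theorem pe203 : Big.powEndOK data [8,5,0,1,2,3,4] 9 10 pwE 121800 600 = true := by decide +kernel

theorem rel204 : allRange 122400 600 nodeRel = true := by decide +kernel

theorem pz204 : data.powOK [6,4,1,9,7,3,2,1,10,11,8,5,0,1] 17 pwZ 122400 600 = true := by decide +kernel

theorem pe204 : Big.powEndOK data [8,5,0,1,2,3,4] 9 10 pwE 122400 600 = true := by decide +kernel

theorem rel205 : allRange 123000 600 nodeRel = true := by decide +kernel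

theorem pz205 : data.powOK [6,4,1,9,7,3,2,1,10,11,8,5,0,1] 17 pwZ 123000 600 = true := by decide +kernel

theorem pe205 : Big.powEndOK data [8,5,0,1,2,3,4] 9 10 pwE 123000 600 = true := by decide +kernel

theorem rel206 : allRange 123600 600 nodeRel = true := by decide +kernel

theorem pz206 : data.powOK [6,4,1,9,7,3,2,1,10,11,8,5,0,1] 17 pwZ 123600 600 = true := by decide +kernel

theorem pe206 : Big.powEndOK data [8,5,0,1,2,3,4] 9 10 pwE 123600 600 = true := by decide +kernel

theorem rel207 : allRange 124200 600 nodeRel = true := by decide +kernel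

theorem pz207 : data.powOK [6,4,1,9,7,3,2,1,10,11,8,5,0,1] 17 pwZ 124200 600 = true := by decide +kernel

theorem pe207 : Big.powEndOK data [8,5,0,1,2,3,4] 9 10 pwE 124200 600 = true := by decide +kernel

end H47.Fi24.Tab
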