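import Cfsg.Agent.H47.Fi24.Tab.RelDef

/-!
Checks of the relators (generated).
-/

set_option autoImplicit false
set_option maxRecDepth 100000
set_option linter.all false
set_option Elab.async false

namespace H47.Fi24.Tab

open H93.Coset

theorem rel208 : allRange 124800 600 nodeRel = true := by decide +kernel

theorem pz208 : data.powOK [6,4,1,9,7,3,2,1,10,11,8,5,0,1] 17 pwZ 124800 600 = true := by decide +kernel

theorem pe208 : Big.powEndOK data [8,5,0,1,2,3,4] 9 10 pwE 124800 600 = true := by decide +kernel

theorem rel209 : allRange 125400 600 nodeRel = true := by decide +kernel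

theorem pz209 : data.powOK [6,4,1,9,7,3,2,1,10,11,8,5,0,1] 17 pwZ 125400 600 = true := by decide +kernel

theorem pe209 : Big.powEndOK data [8,5,0,1,2,3,4] 9 10 pwE 125400 600 = true := by decide +kernel

theorem rel210 : allRange 126000 600 nodeRel = true := by decide +kernel

theorem pz210 : data.powOK [6,4,1,9,7,3,2,1,10,11,8,5,0,1] 17 pwZ 126000 600 = true := by decide +kernel

theorem pe210 : Big.powEndOK data [8,5,0,1,2,3,4] 9 10 pwE 126000 600 = true := by decide +kernel

theorem rel211 : allRange 126600 600 nodeRel = true := by decide +kernel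

theorem pz211 : data.powOK [6,4,1,9,7,3,2,1,10,11,8,5,0,1] 17 pwZ 126600 600 = true := by decide +kernel

theorem pe211 : Big.powEndOK data [8,5,0,1,2,3,4] 9 10 pwE 126600 600 = true := by decide +kernel

theorem rel212 : allRange 127200 600 nodeRel = true := by decide +kernel

theorem pz212 : data.powOK [6,4,1,9,7,3,2,1,10,11,8,5,0,1] 17 pwZ 127200 600 = true := by decide +kernel

theorem pe212 : Big.powEndOK data [8,5,0,1,2,3,4] 9 10 pwE 127200 600 = true := by decide +kernel

theorem rel213 : allRange 127800 600 nodeRel = true := by decide +kernel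

theorem pz213 : data.powOK [6,4,1,9,7,3,2,1,10,11,8,5,0,1] 17 pwZ 127800 600 = true := by decide +kernel

theorem pe213 : Big.powEndOK data [8,5,0,1,2,3,4] 9 10 pwE 127800 600 = true := by decide +kernel

theorem rel214 : allRange 128400 600 nodeRel = true := by decide +kernel

theorem pz214 : data.powOK [6,4,1,9,7,3,2,1,10,11,8,5,0,1] 17 pwZ 128400 600 = true := by decide +kernel

theorem pe214 : Big.powEndOK data [8,5,0,1,2,3,4] 9 10 pwE 128400 600 = true := by decide +kernel

theorem rel215 : allRange 129000 600 nodeRel = true := by decide +kernel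

theorem pz215 : data.powOK [6,4,1,9,7,3,2,1,10,11,8,5,0,1] 17 pwZ 129000 600 = true := by decide +kernel

theorem pe215 : Big.powEndOK data [8,5,0,1,2,3,4] 9 10 pwE 129000 600 = true := by decide +kernel

theorem rel216 : allRange 129600 600 nodeRel = true := by decide +kernel

theorem pz216 : data.powOK [6,4,1,9,7,3,2,1,10,11,8,5,0,1] 17 pwZ 129600 600 = true := by decide +kernel

theorem pe216 : Big.powEndOK data [8,5,0,1,2,3,4] 9 10 pwE 129600 600 = true := by decide +kernel

theorem rel217 : allRange 130200 600 nodeRel = true := by decide +kernel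

theorem pz217 : data.powOK [6,4,1,9,7,3,2,1,10,11,8,5,0,1] 17 pwZ 130200 600 = true := by decide +kernel

theorem pe217 : Big.powEndOK data [8,5,0,1,2,3,4] 9 10 pwE 130200 600 = true := by decide +kernel

theorem rel218 : allRange 130800 600 nodeRel = true := by decide +kernel

theorem pz218 : data.powOK [6,4,1,9,7,3,2,1,10,11,8,5,0,1] 17 pwZ 130800 600 = true := by decide +kernel

theorem pe218 : Big.powEndOK data [8,5,0,1,2,3,4] 9 10 pwE 130800 600 = true := by decide +kernel

theorem rel219 : allRange 131400 600 nodeRel = true := by decide +kernel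

theorem pz219 : data.powOK [6,4,1,9,7,3,2,1,10,11,8,5,0,1] 17 pwZ 131400 600 = true := by decide +kernel

theorem pe219 : Big.powEndOK data [8,5,0,1,2,3,4] 9 10 pwE 131400 600 = true := by decide +kernel

theorem rel220 : allRange 132000 600 nodeRel = true := by decide +kernel

theorem pz220 : data.powOK [6,4,1,9,7,3,2,1,10,11,8,5,0,1] 17 pwZ 132000 600 = true := by decide +kernel

theorem pe220 : Big.powEndOK data [8,5,0,1,2,3,4] 9 10 pwE 132000 600 = true := by decide +kernel

theorem rel221 : allRange 132600 600 nodeRel = true := by decide +kernel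

theorem pz221 : data.powOK [6,4,1,9,7,3,2,1,10,11,8,5,0,1] 17 pwZ 132600 600 = true := by decide +kernel

theorem pe221 : Big.powEndOK data [8,5,0,1,2,3,4] 9 10 pwE 132600 600 = true := by decide +kernel

theorem rel222 : allRange 133200 600 nodeRel = true := by decide +kernel

theorem pz222 : data.powOK [6,4,1,9,7,3,2,1,10,11,8,5,0,1] 17 pwZ 133200 600 = true := by decide +kernel

theorem pe222 : Big.powEndOK data [8,5,0,1,2,3,4] 9 10 pwE 133200 600 = true := by decide +kernel

theorem rel223 : allRange 133800 600 nodeRel = true := by decide +kernel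

theorem pz223 : data.powOK [6,4,1,9,7,3,2,1,10,11,8,5,0,1] 17 pwZ 133800 600 = true := by decide +kernel

theorem pe223 : Big.powEndOK data [8,5,0,1,2,3,4] 9 10 pwE 133800 600 = true := by decide +kernel

end H47.Fi24.Tab
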