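import Cfsg.Agent.H47.Fi24.Tab.RelDef

/-!
Checks of the relators (generated).
-/

set_option autoImplicit false
set_option maxRecDepth 100000
set_option linter.all false
set_option Elab.async false

namespace H47.Fi24.Tab

open H93.Coset

theorem rel224 : allRange 134400 600 nodeRel = true := by decide +kernel

theorem pz224 : data.powOK [6,4,1,9,7,3,2,1,10,11,8,5,0,1] 17 pwZ 134400 600 = true := by decide +kernel

theorem pe224 : Big.powEndOK data [8,5,0,1,2,3,4] 9 10 pwE 134400 600 = true := by decide +kernel

theorem rel225 : allRange 135000 600 nodeRel = true := by decide +kernel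

theorem pz225 : data.powOK [6,4,1,9,7,3,2,1,10,11,8,5,0,1] 17 pwZ 135000 600 = true := by decide +kernel

theorem pe225 : Big.powEndOK data [8,5,0,1,2,3,4] 9 10 pwE 135000 600 = true := by decide +kernel

theorem rel226 : allRange 135600 600 nodeRel = true := by decide +kernel

theorem pz226 : data.powOK [6,4,1,9,7,3,2,1,10,11,8,5,0,1] 17 pwZ 135600 600 = true := by decide +kernel

theorem pe226 : Big.powEndOK data [8,5,0,1,2,3,4] 9 10 pwE 135600 600 = true := by decide +kernel

theorem rel227 : allRange 136200 600 nodeRel = true := by decide +kernel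

theorem pz227 : data.powOK [6,4,1,9,7,3,2,1,10,11,8,5,0,1] 17 pwZ 136200 600 = true := by decide +kernel

theorem pe227 : Big.powEndOK data [8,5,0,1,2,3,4] 9 10 pwE 136200 600 = true := by decide +kernel

theorem rel228 : allRange 136800 600 nodeRel = true := by decide +kernel

theorem pz228 : data.powOK [6,4,1,9,7,3,2,1,10,11,8,5,0,1] 17 pwZ 136800 600 = true := by decide +kernel

theorem pe228 : Big.powEndOK data [8,5,0,1,2,3,4] 9 10 pwE 136800 600 = true := by decide +kernel

theorem rel229 : allRange 137400 600 nodeRel = true := by decide +kernel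

theorem pz229 : data.powOK [6,4,1,9,7,3,2,1,10,11,8,5,0,1] 17 pwZ 137400 600 = true := by decide +kernel

theorem pe229 : Big.powEndOK data [8,5,0,1,2,3,4] 9 10 pwE 137400 600 = true := by decide +kernel

theorem rel230 : allRange 138000 600 nodeRel = true := by decide +kernel

theorem pz230 : data.powOK [6,4,1,9,7,3,2,1,10,11,8,5,0,1] 17 pwZ 138000 600 = true := by decide +kernel

theorem pe230 : Big.powEndOK data [8,5,0,1,2,3,4] 9 10 pwE 138000 600 = true := by decide +kernel

theorem rel231 : allRange 138600 600 nodeRel = true := by decide +kernel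

theorem pz231 : data.powOK [6,4,1,9,7,3,2,1,10,11,8,5,0,1] 17 pwZ 138600 600 = true := by decide +kernel

theorem pe231 : Big.powEndOK data [8,5,0,1,2,3,4] 9 10 pwE 138600 600 = true := by decide +kernel

theorem rel232 : allRange 139200 600 nodeRel = true := by decide +kernel

theorem pz232 : data.powOK [6,4,1,9,7,3,2,1,10,11,8,5,0,1] 17 pwZ 139200 600 = true := by decide +kernel

theorem pe232 : Big.powEndOK data [8,5,0,1,2,3,4] 9 10 pwE 139200 600 = true := by decide +kernel

theorem rel233 : allRange 139800 600 nodeRel = true := by decide +kernel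

theorem pz233 : data.powOK [6,4,1,9,7,3,2,1,10,11,8,5,0,1] 17 pwZ 139800 600 = true := by decide +kernel

theorem pe233 : Big.powEndOK data [8,5,0,1,2,3,4] 9 10 pwE 139800 600 = true := by decide +kernel

theorem rel234 : allRange 140400 600 nodeRel = true := by decide +kernel

theorem pz234 : data.powOK [6,4,1,9,7,3,2,1,10,11,8,5,0,1] 17 pwZ 140400 600 = true := by decide +kernel

theorem pe234 : Big.powEndOK data [8,5,0,1,2,3,4] 9 10 pwE 140400 600 = true := by decide +kernel

theorem rel235 : allRange 141000 600 nodeRel = true := by decide +kernel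

theorem pz235 : data.powOK [6,4,1,9,7,3,2,1,10,11,8,5,0,1] 17 pwZ 141000 600 = true := by decide +kernel

theorem pe235 : Big.powEndOK data [8,5,0,1,2,3,4] 9 10 pwE 141000 600 = true := by decide +kernel

theorem rel236 : allRange 141600 600 nodeRel = true := by decide +kernel

theorem pz236 : data.powOK [6,4,1,9,7,3,2,1,10,11,8,5,0,1] 17 pwZ 141600 600 = true := by decide +kernel

theorem pe236 : Big.powEndOK data [8,5,0,1,2,3,4] 9 10 pwE 141600 600 = true := by decide +kernel

theorem rel237 : allRange 142200 600 nodeRel = true := by decide +kernel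

theorem pz237 : data.powOK [6,4,1,9,7,3,2,1,10,11,8,5,0,1] 17 pwZ 142200 600 = true := by decide +kernel

theorem pe237 : Big.powEndOK data [8,5,0,1,2,3,4] 9 10 pwE 142200 600 = true := by decide +kernel

theorem rel238 : allRange 142800 600 nodeRel = true := by decide +kernel

theorem pz238 : data.powOK [6,4,1,9,7,3,2,1,10,11,8,5,0,1] 17 pwZ 142800 600 = true := by decide +kernel

theorem pe238 : Big.powEndOK data [8,5,0,1,2,3,4] 9 10 pwE 142800 600 = true := by decide +kernel

theorem rel239 : allRange 143400 600 nodeRel = true := by decide +kernel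

theorem pz239 : data.powOK [6,4,1,9,7,3,2,1,10,11,8,5,0,1] 17 pwZ 143400 600 = true := by decide +kernel

theorem pe239 : Big.powEndOK data [8,5,0,1,2,3,4] 9 10 pwE 143400 600 = true := by decide +kernel

end H47.Fi24.Tab
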