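import Cfsg.Agent.H47.Fi24.Tab.RelDef

/-!
Checks of the relators (generated).
-/

set_option autoImplicit false
set_option maxRecDepth 100000
set_option linter.all false
set_option Elab.async false

namespace H47.Fi24.Tab

open H93.Coset

theorem rel256 : allRange 153600 600 nodeRel = true := by decide +kernel

theorem pz256 : data.powOK [6,4,1,9,7,3,2,1,10,11,8,5,0,1] 17 pwZ 153600 600 = true := by decide +kernel

theorem pe256 : Big.powEndOK data [8,5,0,1,2,3,4] 9 10 pwE 153600 600 = true := by decide +kernel

theorem rel257 : allRange 154200 600 nodeRel = true := by decide +kernel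

theorem pz257 : data.powOK [6,4,1,9,7,3,2,1,10,11,8,5,0,1] 17 pwZ 154200 600 = true := by decide +kernel

theorem pe257 : Big.powEndOK data [8,5,0,1,2,3,4] 9 10 pwE 154200 600 = true := by decide +kernel

theorem rel258 : allRange 154800 600 nodeRel = true := by decide +kernel

theorem pz258 : data.powOK [6,4,1,9,7,3,2,1,10,11,8,5,0,1] 17 pwZ 154800 600 = true := by decide +kernel

theorem pe258 : Big.powEndOK data [8,5,0,1,2,3,4] 9 10 pwE 154800 600 = true := by decide +kernel

theorem rel259 : allRange 155400 600 nodeRel = true := by decide +kernel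

theorem pz259 : data.powOK [6,4,1,9,7,3,2,1,10,11,8,5,0,1] 17 pwZ 155400 600 = true := by decide +kernel

theorem pe259 : Big.powEndOK data [8,5,0,1,2,3,4] 9 10 pwE 155400 600 = true := by decide +kernel

theorem rel260 : allRange 156000 600 nodeRel = true := by decide +kernel

theorem pz260 : data.powOK [6,4,1,9,7,3,2,1,10,11,8,5,0,1] 17 pwZ 156000 600 = true := by decide +kernel

theorem pe260 : Big.powEndOK data [8,5,0,1,2,3,4] 9 10 pwE 156000 600 = true := by decide +kernel

theorem rel261 : allRange 156600 600 nodeRel = true := by decide +kernel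

theorem pz261 : data.powOK [6,4,1,9,7,3,2,1,10,11,8,5,0,1] 17 pwZ 156600 600 = true := by decide +kernel

theorem pe261 : Big.powEndOK data [8,5,0,1,2,3,4] 9 10 pwE 156600 600 = true := by decide +kernel

theorem rel262 : allRange 157200 600 nodeRel = true := by decide +kernel

theorem pz262 : data.powOK [6,4,1,9,7,3,2,1,10,11,8,5,0,1] 17 pwZ 157200 600 = true := by decide +kernel

theorem pe262 : Big.powEndOK data [8,5,0,1,2,3,4] 9 10 pwE 157200 600 = true := by decide +kernel

theorem rel263 : allRange 157800 600 nodeRel = true := by decide +kernel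

theorem pz263 : data.powOK [6,4,1,9,7,3,2,1,10,11,8,5,0,1] 17 pwZ 157800 600 = true := by decide +kernel

theorem pe263 : Big.powEndOK data [8,5,0,1,2,3,4] 9 10 pwE 157800 600 = true := by decide +kernel

theorem rel264 : allRange 158400 600 nodeRel = true := by decide +kernel

theorem pz264 : data.powOK [6,4,1,9,7,3,2,1,10,11,8,5,0,1] 17 pwZ 158400 600 = true := by decide +kernel

theorem pe264 : Big.powEndOK data [8,5,0,1,2,3,4] 9 10 pwE 158400 600 = true := by decide +kernel

theorem rel265 : allRange 159000 600 nodeRel = true := by decide +kernel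

theorem pz265 : data.powOK [6,4,1,9,7,3,2,1,10,11,8,5,0,1] 17 pwZ 159000 600 = true := by decide +kernel

theorem pe265 : Big.powEndOK data [8,5,0,1,2,3,4] 9 10 pwE 159000 600 = true := by decide +kernel

theorem rel266 : allRange 159600 600 nodeRel = true := by decide +kernel

theorem pz266 : data.powOK [6,4,1,9,7,3,2,1,10,11,8,5,0,1] 17 pwZ 159600 600 = true := by decide +kernel

theorem pe266 : Big.powEndOK data [8,5,0,1,2,3,4] 9 10 pwE 159600 600 = true := by decide +kernel

theorem rel267 : allRange 160200 600 nodeRel = true := by decide +kernel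

theorem pz267 : data.powOK [6,4,1,9,7,3,2,1,10,11,8,5,0,1] 17 pwZ 160200 600 = true := by decide +kernel

theorem pe267 : Big.powEndOK data [8,5,0,1,2,3,4] 9 10 pwE 160200 600 = true := by decide +kernel

theorem rel268 : allRange 160800 600 nodeRel = true := by decide +kernel

theorem pz268 : data.powOK [6,4,1,9,7,3,2,1,10,11,8,5,0,1] 17 pwZ 160800 600 = true := by decide +kernel

theorem pe268 : Big.powEndOK data [8,5,0,1,2,3,4] 9 10 pwE 160800 600 = true := by decide +kernel

theorem rel269 : allRange 161400 600 nodeRel = true := by decide +kernel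

theorem pz269 : data.powOK [6,4,1,9,7,3,2,1,10,11,8,5,0,1] 17 pwZ 161400 600 = true := by decide +kernel

theorem pe269 : Big.powEndOK data [8,5,0,1,2,3,4] 9 10 pwE 161400 600 = true := by decide +kernel

theorem rel270 : allRange 162000 600 nodeRel = true := by decide +kernel

theorem pz270 : data.powOK [6,4,1,9,7,3,2,1,10,11,8,5,0,1] 17 pwZ 162000 600 = true := by decide +kernel

theorem pe270 : Big.powEndOK data [8,5,0,1,2,3,4] 9 10 pwE 162000 600 = true := by decide +kernel

theorem rel271 : allRange 162600 600 nodeRel = true := by decide +kernel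

theorem pz271 : data.powOK [6,4,1,9,7,3,2,1,10,11,8,5,0,1] 17 pwZ 162600 600 = true := by decide +kernel

theorem pe271 : Big.powEndOK data [8,5,0,1,2,3,4] 9 10 pwE 162600 600 = true := by decide +kernel

end H47.Fi24.Tab
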