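import Cfsg.Agent.H47.Fi24.Tab.RelDef

/-!
Checks of the relators (generated).
-/

set_option autoImplicit false
set_option maxRecDepth 100000
set_option linter.all false
set_option Elab.async false

namespace H47.Fi24.Tab

open H93.Coset

theorem rel272 : allRange 163200 600 nodeRel = true := by decide +kernel

theorem pz272 : data.powOK [6,4,1,9,7,3,2,1,10,11,8,5,0,1] 17 pwZ 163200 600 = true := by decide +kernel

theorem pe272 : Big.powEndOK data [8,5,0,1,2,3,4] 9 10 pwE 163200 600 = true := by decide +kernel

theorem rel273 : allRange 163800 600 nodeRel = true := by decide +kernel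

theorem pz273 : data.powOK [6,4,1,9,7,3,2,1,10,11,8,5,0,1] 17 pwZ 163800 600 = true := by decide +kernel

theorem pe273 : Big.powEndOK data [8,5,0,1,2,3,4] 9 10 pwE 163800 600 = true := by decide +kernel

theorem rel274 : allRange 164400 600 nodeRel = true := by decide +kernel

theorem pz274 : data.powOK [6,4,1,9,7,3,2,1,10,11,8,5,0,1] 17 pwZ 164400 600 = true := by decide +kernel

theorem pe274 : Big.powEndOK data [8,5,0,1,2,3,4] 9 10 pwE 164400 600 = true := by decide +kernel

theorem rel275 : allRange 165000 600 nodeRel = true := by decide +kernel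

theorem pz275 : data.powOK [6,4,1,9,7,3,2,1,10,11,8,5,0,1] 17 pwZ 165000 600 = true := by decide +kernel

theorem pe275 : Big.powEndOK data [8,5,0,1,2,3,4] 9 10 pwE 165000 600 = true := by decide +kernel

theorem rel276 : allRange 165600 600 nodeRel = true := by decide +kernel

theorem pz276 : data.powOK [6,4,1,9,7,3,2,1,10,11,8,5,0,1] 17 pwZ 165600 600 = true := by decide +kernel

theorem pe276 : Big.powEndOK data [8,5,0,1,2,3,4] 9 10 pwE 165600 600 = true := by decide +kernel

theorem rel277 : allRange 166200 600 nodeRel = true := by decide +kernel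

theorem pz277 : data.powOK [6,4,1,9,7,3,2,1,10,11,8,5,0,1] 17 pwZ 166200 600 = true := by decide +kernel

theorem pe277 : Big.powEndOK data [8,5,0,1,2,3,4] 9 10 pwE 166200 600 = true := by decide +kernel

theorem rel278 : allRange 166800 600 nodeRel = true := by decide +kernel

theorem pz278 : data.powOK [6,4,1,9,7,3,2,1,10,11,8,5,0,1] 17 pwZ 166800 600 = true := by decide +kernel

theorem pe278 : Big.powEndOK data [8,5,0,1,2,3,4] 9 10 pwE 166800 600 = true := by decide +kernel

theorem rel279 : allRange 167400 600 nodeRel = true := by decide +kernel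

theorem pz279 : data.powOK [6,4,1,9,7,3,2,1,10,11,8,5,0,1] 17 pwZ 167400 600 = true := by decide +kernel

theorem pe279 : Big.powEndOK data [8,5,0,1,2,3,4] 9 10 pwE 167400 600 = true := by decide +kernel

theorem rel280 : allRange 168000 600 nodeRel = true := by decide +kernel

theorem pz280 : data.powOK [6,4,1,9,7,3,2,1,10,11,8,5,0,1] 17 pwZ 168000 600 = true := by decide +kernel

theorem pe280 : Big.powEndOK data [8,5,0,1,2,3,4] 9 10 pwE 168000 600 = true := by decide +kernel

theorem rel281 : allRange 168600 600 nodeRel = true := by decide +kernel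

theorem pz281 : data.powOK [6,4,1,9,7,3,2,1,10,11,8,5,0,1] 17 pwZ 168600 600 = true := by decide +kernel

theorem pe281 : Big.powEndOK data [8,5,0,1,2,3,4] 9 10 pwE 168600 600 = true := by decide +kernel

theorem rel282 : allRange 169200 600 nodeRel = true := by decide +kernel

theorem pz282 : data.powOK [6,4,1,9,7,3,2,1,10,11,8,5,0,1] 17 pwZ 169200 600 = true := by decide +kernel

theorem pe282 : Big.powEndOK data [8,5,0,1,2,3,4] 9 10 pwE 169200 600 = true := by decide +kernel

theorem rel283 : allRange 169800 600 nodeRel = true := by decide +kernel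

theorem pz283 : data.powOK [6,4,1,9,7,3,2,1,10,11,8,5,0,1] 17 pwZ 169800 600 = true := by decide +kernel

theorem pe283 : Big.powEndOK data [8,5,0,1,2,3,4] 9 10 pwE 169800 600 = true := by decide +kernel

theorem rel284 : allRange 170400 600 nodeRel = true := by decide +kernel

theorem pz284 : data.powOK [6,4,1,9,7,3,2,1,10,11,8,5,0,1] 17 pwZ 170400 600 = true := by decide +kernel

theorem pe284 : Big.powEndOK data [8,5,0,1,2,3,4] 9 10 pwE 170400 600 = true := by decide +kernel

theorem rel285 : allRange 171000 600 nodeRel = true := by decide +kernel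

theorem pz285 : data.powOK [6,4,1,9,7,3,2,1,10,11,8,5,0,1] 17 pwZ 171000 600 = true := by decide +kernel

theorem pe285 : Big.powEndOK data [8,5,0,1,2,3,4] 9 10 pwE 171000 600 = true := by decide +kernel

theorem rel286 : allRange 171600 600 nodeRel = true := by decide +kernel

theorem pz286 : data.powOK [6,4,1,9,7,3,2,1,10,11,8,5,0,1] 17 pwZ 171600 600 = true := by decide +kernel

theorem pe286 : Big.powEndOK data [8,5,0,1,2,3,4] 9 10 pwE 171600 600 = true := by decide +kernel

theorem rel287 : allRange 172200 600 nodeRel = true := by decide +kernel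

theorem pz287 : data.powOK [6,4,1,9,7,3,2,1,10,11,8,5,0,1] 17 pwZ 172200 600 = true := by decide +kernel

theorem pe287 : Big.powEndOK data [8,5,0,1,2,3,4] 9 10 pwE 172200 600 = true := by decide +kernel

end H47.Fi24.Tab
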