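import Cfsg.Agent.H47.Fi24.Tab.RelDef

/-!
Checks of the relators (generated).
-/

set_option autoImplicit false
set_option maxRecDepth 100000
set_option linter.all false
set_option Elab.async false

namespace H47.Fi24.Tab

open H93.Coset

theorem rel288 : allRange 172800 600 nodeRel = true := by decide +kernel

theorem pz288 : data.powOK [6,4,1,9,7,3,2,1,10,11,8,5,0,1] 17 pwZ 172800 600 = true := by decide +kernel

theorem pe288 : Big.powEndOK data [8,5,0,1,2,3,4] 9 10 pwE 172800 600 = true := by decide +kernel

theorem rel289 : allRange 173400 600 nodeRel = true := by decide +kernel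

theorem pz289 : data.powOK [6,4,1,9,7,3,2,1,10,11,8,5,0,1] 17 pwZ 173400 600 = true := by decide +kernel

theorem pe289 : Big.powEndOK data [8,5,0,1,2,3,4] 9 10 pwE 173400 600 = true := by decide +kernel

theorem rel290 : allRange 174000 600 nodeRel = true := by decide +kernel

theorem pz290 : data.powOK [6,4,1,9,7,3,2,1,10,11,8,5,0,1] 17 pwZ 174000 600 = true := by decide +kernel

theorem pe290 : Big.powEndOK data [8,5,0,1,2,3,4] 9 10 pwE 174000 600 = true := by decide +kernel

theorem rel291 : allRange 174600 600 nodeRel = true := by decide +kernel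

theorem pz291 : data.powOK [6,4,1,9,7,3,2,1,10,11,8,5,0,1] 17 pwZ 174600 600 = true := by decide +kernel

theorem pe291 : Big.powEndOK data [8,5,0,1,2,3,4] 9 10 pwE 174600 600 = true := by decide +kernel

theorem rel292 : allRange 175200 600 nodeRel = true := by decide +kernel

theorem pz292 : data.powOK [6,4,1,9,7,3,2,1,10,11,8,5,0,1] 17 pwZ 175200 600 = true := by decide +kernel

theorem pe292 : Big.powEndOK data [8,5,0,1,2,3,4] 9 10 pwE 175200 600 = true := by decide +kernel

theorem rel293 : allRange 175800 600 nodeRel = true := by decide +kernel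

theorem pz293 : data.powOK [6,4,1,9,7,3,2,1,10,11,8,5,0,1] 17 pwZ 175800 600 = true := by decide +kernel

theorem pe293 : Big.powEndOK data [8,5,0,1,2,3,4] 9 10 pwE 175800 600 = true := by decide +kernel

theorem rel294 : allRange 176400 600 nodeRel = true := by decide +kernel

theorem pz294 : data.powOK [6,4,1,9,7,3,2,1,10,11,8,5,0,1] 17 pwZ 176400 600 = true := by decide +kernel

theorem pe294 : Big.powEndOK data [8,5,0,1,2,3,4] 9 10 pwE 176400 600 = true := by decide +kernel

theorem rel295 : allRange 177000 600 nodeRel = true := by decide +kernel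

theorem pz295 : data.powOK [6,4,1,9,7,3,2,1,10,11,8,5,0,1] 17 pwZ 177000 600 = true := by decide +kernel

theorem pe295 : Big.powEndOK data [8,5,0,1,2,3,4] 9 10 pwE 177000 600 = true := by decide +kernel

theorem rel296 : allRange 177600 600 nodeRel = true := by decide +kernel

theorem pz296 : data.powOK [6,4,1,9,7,3,2,1,10,11,8,5,0,1] 17 pwZ 177600 600 = true := by decide +kernel

theorem pe296 : Big.powEndOK data [8,5,0,1,2,3,4] 9 10 pwE 177600 600 = true := by decide +kernel

theorem rel297 : allRange 178200 600 nodeRel = true := by decide +kernel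

theorem pz297 : data.powOK [6,4,1,9,7,3,2,1,10,11,8,5,0,1] 17 pwZ 178200 600 = true := by decide +kernel

theorem pe297 : Big.powEndOK data [8,5,0,1,2,3,4] 9 10 pwE 178200 600 = true := by decide +kernel

theorem rel298 : allRange 178800 600 nodeRel = true := by decide +kernel

theorem pz298 : data.powOK [6,4,1,9,7,3,2,1,10,11,8,5,0,1] 17 pwZ 178800 600 = true := by decide +kernel

theorem pe298 : Big.powEndOK data [8,5,0,1,2,3,4] 9 10 pwE 178800 600 = true := by decide +kernel

theorem rel299 : allRange 179400 600 nodeRel = true := by decide +kernel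

theorem pz299 : data.powOK [6,4,1,9,7,3,2,1,10,11,8,5,0,1] 17 pwZ 179400 600 = true := by decide +kernel

theorem pe299 : Big.powEndOK data [8,5,0,1,2,3,4] 9 10 pwE 179400 600 = true := by decide +kernel

theorem rel300 : allRange 180000 600 nodeRel = true := by decide +kernel

theorem pz300 : data.powOK [6,4,1,9,7,3,2,1,10,11,8,5,0,1] 17 pwZ 180000 600 = true := by decide +kernel

theorem pe300 : Big.powEndOK data [8,5,0,1,2,3,4] 9 10 pwE 180000 600 = true := by decide +kernel

theorem rel301 : allRange 180600 600 nodeRel = true := by decide +kernel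

theorem pz301 : data.powOK [6,4,1,9,7,3,2,1,10,11,8,5,0,1] 17 pwZ 180600 600 = true := by decide +kernel

theorem pe301 : Big.powEndOK data [8,5,0,1,2,3,4] 9 10 pwE 180600 600 = true := by decide +kernel

theorem rel302 : allRange 181200 600 nodeRel = true := by decide +kernel

theorem pz302 : data.powOK [6,4,1,9,7,3,2,1,10,11,8,5,0,1] 17 pwZ 181200 600 = true := by decide +kernel

theorem pe302 : Big.powEndOK data [8,5,0,1,2,3,4] 9 10 pwE 181200 600 = true := by decide +kernel

theorem rel303 : allRange 181800 600 nodeRel = true := by decide +kernel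

theorem pz303 : data.powOK [6,4,1,9,7,3,2,1,10,11,8,5,0,1] 17 pwZ 181800 600 = true := by decide +kernel

theorem pe303 : Big.powEndOK data [8,5,0,1,2,3,4] 9 10 pwE 181800 600 = true := by decide +kernel

end H47.Fi24.Tab
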