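import Cfsg.Agent.H47.Fi24.Tab.RelDef

/-!
Checks of the relators (generated).
-/

set_option autoImplicit false
set_option maxRecDepth 100000
set_option linter.all false
set_option Elab.async false

namespace H47.Fi24.Tab

open H93.Coset

theorem rel304 : allRange 182400 600 nodeRel = true := by decide +kernel

theorem pz304 : data.powOK [6,4,1,9,7,3,2,1,10,11,8,5,0,1] 17 pwZ 182400 600 = true := by decide +kernel

theorem pe304 : Big.powEndOK data [8,5,0,1,2,3,4] 9 10 pwE 182400 600 = true := by decide +kernel

theorem rel305 : allRange 183000 600 nodeRel = true := by decide +kernel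

theorem pz305 : data.powOK [6,4,1,9,7,3,2,1,10,11,8,5,0,1] 17 pwZ 183000 600 = true := by decide +kernel

theorem pe305 : Big.powEndOK data [8,5,0,1,2,3,4] 9 10 pwE 183000 600 = true := by decide +kernel

theorem rel306 : allRange 183600 600 nodeRel = true := by decide +kernel

theorem pz306 : data.powOK [6,4,1,9,7,3,2,1,10,11,8,5,0,1] 17 pwZ 183600 600 = true := by decide +kernel

theorem pe306 : Big.powEndOK data [8,5,0,1,2,3,4] 9 10 pwE 183600 600 = true := by decide +kernel

theorem rel307 : allRange 184200 600 nodeRel = true := by decide +kernel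

theorem pz307 : data.powOK [6,4,1,9,7,3,2,1,10,11,8,5,0,1] 17 pwZ 184200 600 = true := by decide +kernel

theorem pe307 : Big.powEndOK data [8,5,0,1,2,3,4] 9 10 pwE 184200 600 = true := by decide +kernel

theorem rel308 : allRange 184800 600 nodeRel = true := by decide +kernel

theorem pz308 : data.powOK [6,4,1,9,7,3,2,1,10,11,8,5,0,1] 17 pwZ 184800 600 = true := by decide +kernel

theorem pe308 : Big.powEndOK data [8,5,0,1,2,3,4] 9 10 pwE 184800 600 = true := by decide +kernel

theorem rel309 : allRange 185400 600 nodeRel = true := by decide +kernel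

theorem pz309 : data.powOK [6,4,1,9,7,3,2,1,10,11,8,5,0,1] 17 pwZ 185400 600 = true := by decide +kernel

theorem pe309 : Big.powEndOK data [8,5,0,1,2,3,4] 9 10 pwE 185400 600 = true := by decide +kernel

theorem rel310 : allRange 186000 600 nodeRel = true := by decide +kernel

theorem pz310 : data.powOK [6,4,1,9,7,3,2,1,10,11,8,5,0,1] 17 pwZ 186000 600 = true := by decide +kernel

theorem pe310 : Big.powEndOK data [8,5,0,1,2,3,4] 9 10 pwE 186000 600 = true := by decide +kernel

theorem rel311 : allRange 186600 600 nodeRel = true := by decide +kernel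

theorem pz311 : data.powOK [6,4,1,9,7,3,2,1,10,11,8,5,0,1] 17 pwZ 186600 600 = true := by decide +kernel

theorem pe311 : Big.powEndOK data [8,5,0,1,2,3,4] 9 10 pwE 186600 600 = true := by decide +kernel

theorem rel312 : allRange 187200 600 nodeRel = true := by decide +kernel

theorem pz312 : data.powOK [6,4,1,9,7,3,2,1,10,11,8,5,0,1] 17 pwZ 187200 600 = true := by decide +kernel

theorem pe312 : Big.powEndOK data [8,5,0,1,2,3,4] 9 10 pwE 187200 600 = true := by decide +kernel

theorem rel313 : allRange 187800 600 nodeRel = true := by decide +kernel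

theorem pz313 : data.powOK [6,4,1,9,7,3,2,1,10,11,8,5,0,1] 17 pwZ 187800 600 = true := by decide +kernel

theorem pe313 : Big.powEndOK data [8,5,0,1,2,3,4] 9 10 pwE 187800 600 = true := by decide +kernel

theorem rel314 : allRange 188400 600 nodeRel = true := by decide +kernel

theorem pz314 : data.powOK [6,4,1,9,7,3,2,1,10,11,8,5,0,1] 17 pwZ 188400 600 = true := by decide +kernel

theorem pe314 : Big.powEndOK data [8,5,0,1,2,3,4] 9 10 pwE 188400 600 = true := by decide +kernel

theorem rel315 : allRange 189000 600 nodeRel = true := by decide +kernel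

theorem pz315 : data.powOK [6,4,1,9,7,3,2,1,10,11,8,5,0,1] 17 pwZ 189000 600 = true := by decide +kernel

theorem pe315 : Big.powEndOK data [8,5,0,1,2,3,4] 9 10 pwE 189000 600 = true := by decide +kernel

theorem rel316 : allRange 189600 600 nodeRel = true := by decide +kernel

theorem pz316 : data.powOK [6,4,1,9,7,3,2,1,10,11,8,5,0,1] 17 pwZ 189600 600 = true := by decide +kernel

theorem pe316 : Big.powEndOK data [8,5,0,1,2,3,4] 9 10 pwE 189600 600 = true := by decide +kernel

theorem rel317 : allRange 190200 600 nodeRel = true := by decide +kernel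

theorem pz317 : data.powOK [6,4,1,9,7,3,2,1,10,11,8,5,0,1] 17 pwZ 190200 600 = true := by decide +kernel

theorem pe317 : Big.powEndOK data [8,5,0,1,2,3,4] 9 10 pwE 190200 600 = true := by decide +kernel

theorem rel318 : allRange 190800 600 nodeRel = true := by decide +kernel

theorem pz318 : data.powOK [6,4,1,9,7,3,2,1,10,11,8,5,0,1] 17 pwZ 190800 600 = true := by decide +kernel

theorem pe318 : Big.powEndOK data [8,5,0,1,2,3,4] 9 10 pwE 190800 600 = true := by decide +kernel

theorem rel319 : allRange 191400 600 nodeRel = true := by decide +kernel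

theorem pz319 : data.powOK [6,4,1,9,7,3,2,1,10,11,8,5,0,1] 17 pwZ 191400 600 = true := by decide +kernel

theorem pe319 : Big.powEndOK data [8,5,0,1,2,3,4] 9 10 pwE 191400 600 = true := by decide +kernel

end H47.Fi24.Tab
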