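import Cfsg.Agent.H47.Fi24.Tab.RelDef

/-!
Checks of the relators (generated).
-/

set_option autoImplicit false
set_option maxRecDepth 100000
set_option linter.all false
set_option Elab.async false

namespace H47.Fi24.Tab

open H93.Coset

theorem rel32 : allRange 19200 600 nodeRel = true := by decide +kernel

theorem pz32 : data.powOK [6,4,1,9,7,3,2,1,10,11,8,5,0,1] 17 pwZ 19200 600 = true := by decide +kernel

theorem pe32 : Big.powEndOK data [8,5,0,1,2,3,4] 9 10 pwE 19200 600 = true := by decide +kernel

theorem rel33 : allRange 19800 600 nodeRel = true := by decide +kernel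

theorem pz33 : data.powOK [6,4,1,9,7,3,2,1,10,11,8,5,0,1] 17 pwZ 19800 600 = true := by decide +kernel

theorem pe33 : Big.powEndOK data [8,5,0,1,2,3,4] 9 10 pwE 19800 600 = true := by decide +kernel

theorem rel34 : allRange 20400 600 nodeRel = true := by decide +kernel

theorem pz34 : data.powOK [6,4,1,9,7,3,2,1,10,11,8,5,0,1] 17 pwZ 20400 600 = true := by decide +kernel

theorem pe34 : Big.powEndOK data [8,5,0,1,2,3,4] 9 10 pwE 20400 600 = true := by decide +kernel

theorem rel35 : allRange 21000 600 nodeRel = true := by decide +kernel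

theorem pz35 : data.powOK [6,4,1,9,7,3,2,1,10,11,8,5,0,1] 17 pwZ 21000 600 = true := by decide +kernel

theorem pe35 : Big.powEndOK data [8,5,0,1,2,3,4] 9 10 pwE 21000 600 = true := by decide +kernel

theorem rel36 : allRange 21600 600 nodeRel = true := by decide +kernel

theorem pz36 : data.powOK [6,4,1,9,7,3,2,1,10,11,8,5,0,1] 17 pwZ 21600 600 = true := by decide +kernel

theorem pe36 : Big.powEndOK data [8,5,0,1,2,3,4] 9 10 pwE 21600 600 = true := by decide +kernel

theorem rel37 : allRange 22200 600 nodeRel = true := by decide +kernel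

theorem pz37 : data.powOK [6,4,1,9,7,3,2,1,10,11,8,5,0,1] 17 pwZ 22200 600 = true := by decide +kernel

theorem pe37 : Big.powEndOK data [8,5,0,1,2,3,4] 9 10 pwE 22200 600 = true := by decide +kernel

theorem rel38 : allRange 22800 600 nodeRel = true := by decide +kernel

theorem pz38 : data.powOK [6,4,1,9,7,3,2,1,10,11,8,5,0,1] 17 pwZ 22800 600 = true := by decide +kernel

theorem pe38 : Big.powEndOK data [8,5,0,1,2,3,4] 9 10 pwE 22800 600 = true := by decide +kernel

theorem rel39 : allRange 23400 600 nodeRel = true := by decide +kernel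

theorem pz39 : data.powOK [6,4,1,9,7,3,2,1,10,11,8,5,0,1] 17 pwZ 23400 600 = true := by decide +kernel

theorem pe39 : Big.powEndOK data [8,5,0,1,2,3,4] 9 10 pwE 23400 600 = true := by decide +kernel

theorem rel40 : allRange 24000 600 nodeRel = true := by decide +kernel

theorem pz40 : data.powOK [6,4,1,9,7,3,2,1,10,11,8,5,0,1] 17 pwZ 24000 600 = true := by decide +kernel

theorem pe40 : Big.powEndOK data [8,5,0,1,2,3,4] 9 10 pwE 24000 600 = true := by decide +kernel

theorem rel41 : allRange 24600 600 nodeRel = true := by decide +kernel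

theorem pz41 : data.powOK [6,4,1,9,7,3,2,1,10,11,8,5,0,1] 17 pwZ 24600 600 = true := by decide +kernel

theorem pe41 : Big.powEndOK data [8,5,0,1,2,3,4] 9 10 pwE 24600 600 = true := by decide +kernel

theorem rel42 : allRange 25200 600 nodeRel = true := by decide +kernel

theorem pz42 : data.powOK [6,4,1,9,7,3,2,1,10,11,8,5,0,1] 17 pwZ 25200 600 = true := by decide +kernel

theorem pe42 : Big.powEndOK data [8,5,0,1,2,3,4] 9 10 pwE 25200 600 = true := by decide +kernel

theorem rel43 : allRange 25800 600 nodeRel = true := by decide +kernel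

theorem pz43 : data.powOK [6,4,1,9,7,3,2,1,10,11,8,5,0,1] 17 pwZ 25800 600 = true := by decide +kernel

theorem pe43 : Big.powEndOK data [8,5,0,1,2,3,4] 9 10 pwE 25800 600 = true := by decide +kernel

theorem rel44 : allRange 26400 600 nodeRel = true := by decide +kernel

theorem pz44 : data.powOK [6,4,1,9,7,3,2,1,10,11,8,5,0,1] 17 pwZ 26400 600 = true := by decide +kernel

theorem pe44 : Big.powEndOK data [8,5,0,1,2,3,4] 9 10 pwE 26400 600 = true := by decide +kernel

theorem rel45 : allRange 27000 600 nodeRel = true := by decide +kernel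

theorem pz45 : data.powOK [6,4,1,9,7,3,2,1,10,11,8,5,0,1] 17 pwZ 27000 600 = true := by decide +kernel

theorem pe45 : Big.powEndOK data [8,5,0,1,2,3,4] 9 10 pwE 27000 600 = true := by decide +kernel

theorem rel46 : allRange 27600 600 nodeRel = true := by decide +kernel

theorem pz46 : data.powOK [6,4,1,9,7,3,2,1,10,11,8,5,0,1] 17 pwZ 27600 600 = true := by decide +kernel

theorem pe46 : Big.powEndOK data [8,5,0,1,2,3,4] 9 10 pwE 27600 600 = true := by decide +kernel

theorem rel47 : allRange 28200 600 nodeRel = true := by decide +kernel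

theorem pz47 : data.powOK [6,4,1,9,7,3,2,1,10,11,8,5,0,1] 17 pwZ 28200 600 = true := by decide +kernel

theorem pe47 : Big.powEndOK data [8,5,0,1,2,3,4] 9 10 pwE 28200 600 = true := by decide +kernel

end H47.Fi24.Tab
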