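import Cfsg.Agent.H47.Fi24.Tab.RelDef

/-!
Checks of the relators (generated).
-/

set_option autoImplicit false
set_option maxRecDepth 100000
set_option linter.all false
set_option Elab.async false

namespace H47.Fi24.Tab

open H93.Coset

theorem rel320 : allRange 192000 600 nodeRel = true := by decide +kernel

theorem pz320 : data.powOK [6,4,1,9,7,3,2,1,10,11,8,5,0,1] 17 pwZ 192000 600 = true := by decide +kernel

theorem pe320 : Big.powEndOK data [8,5,0,1,2,3,4] 9 10 pwE 192000 600 = true := by decide +kernel

theorem rel321 : allRange 192600 600 nodeRel = true := by decide +kernel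

theorem pz321 : data.powOK [6,4,1,9,7,3,2,1,10,11,8,5,0,1] 17 pwZ 192600 600 = true := by decide +kernel

theorem pe321 : Big.powEndOK data [8,5,0,1,2,3,4] 9 10 pwE 192600 600 = true := by decide +kernel

theorem rel322 : allRange 193200 600 nodeRel = true := by decide +kernel

theorem pz322 : data.powOK [6,4,1,9,7,3,2,1,10,11,8,5,0,1] 17 pwZ 193200 600 = true := by decide +kernel

theorem pe322 : Big.powEndOK data [8,5,0,1,2,3,4] 9 10 pwE 193200 600 = true := by decide +kernel

theorem rel323 : allRange 193800 600 nodeRel = true := by decide +kernel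

theorem pz323 : data.powOK [6,4,1,9,7,3,2,1,10,11,8,5,0,1] 17 pwZ 193800 600 = true := by decide +kernel

theorem pe323 : Big.powEndOK data [8,5,0,1,2,3,4] 9 10 pwE 193800 600 = true := by decide +kernel

theorem rel324 : allRange 194400 600 nodeRel = true := by decide +kernel

theorem pz324 : data.powOK [6,4,1,9,7,3,2,1,10,11,8,5,0,1] 17 pwZ 194400 600 = true := by decide +kernel

theorem pe324 : Big.powEndOK data [8,5,0,1,2,3,4] 9 10 pwE 194400 600 = true := by decide +kernel

theorem rel325 : allRange 195000 600 nodeRel = true := by decide +kernel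

theorem pz325 : data.powOK [6,4,1,9,7,3,2,1,10,11,8,5,0,1] 17 pwZ 195000 600 = true := by decide +kernel

theorem pe325 : Big.powEndOK data [8,5,0,1,2,3,4] 9 10 pwE 195000 600 = true := by decide +kernel

theorem rel326 : allRange 195600 600 nodeRel = true := by decide +kernel

theorem pz326 : data.powOK [6,4,1,9,7,3,2,1,10,11,8,5,0,1] 17 pwZ 195600 600 = true := by decide +kernel

theorem pe326 : Big.powEndOK data [8,5,0,1,2,3,4] 9 10 pwE 195600 600 = true := by decide +kernel

theorem rel327 : allRange 196200 600 nodeRel = true := by decide +kernel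

theorem pz327 : data.powOK [6,4,1,9,7,3,2,1,10,11,8,5,0,1] 17 pwZ 196200 600 = true := by decide +kernel

theorem pe327 : Big.powEndOK data [8,5,0,1,2,3,4] 9 10 pwE 196200 600 = true := by decide +kernel

theorem rel328 : allRange 196800 600 nodeRel = true := by decide +kernel

theorem pz328 : data.powOK [6,4,1,9,7,3,2,1,10,11,8,5,0,1] 17 pwZ 196800 600 = true := by decide +kernel

theorem pe328 : Big.powEndOK data [8,5,0,1,2,3,4] 9 10 pwE 196800 600 = true := by decide +kernel

theorem rel329 : allRange 197400 600 nodeRel = true := by decide +kernel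

theorem pz329 : data.powOK [6,4,1,9,7,3,2,1,10,11,8,5,0,1] 17 pwZ 197400 600 = true := by decide +kernel

theorem pe329 : Big.powEndOK data [8,5,0,1,2,3,4] 9 10 pwE 197400 600 = true := by decide +kernel

theorem rel330 : allRange 198000 600 nodeRel = true := by decide +kernel

theorem pz330 : data.powOK [6,4,1,9,7,3,2,1,10,11,8,5,0,1] 17 pwZ 198000 600 = true := by decide +kernel

theorem pe330 : Big.powEndOK data [8,5,0,1,2,3,4] 9 10 pwE 198000 600 = true := by decide +kernel

theorem rel331 : allRange 198600 600 nodeRel = true := by decide +kernel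

theorem pz331 : data.powOK [6,4,1,9,7,3,2,1,10,11,8,5,0,1] 17 pwZ 198600 600 = true := by decide +kernel

theorem pe331 : Big.powEndOK data [8,5,0,1,2,3,4] 9 10 pwE 198600 600 = true := by decide +kernel

theorem rel332 : allRange 199200 600 nodeRel = true := by decide +kernel

theorem pz332 : data.powOK [6,4,1,9,7,3,2,1,10,11,8,5,0,1] 17 pwZ 199200 600 = true := by decide +kernel

theorem pe332 : Big.powEndOK data [8,5,0,1,2,3,4] 9 10 pwE 199200 600 = true := by decide +kernel

theorem rel333 : allRange 199800 600 nodeRel = true := by decide +kernel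

theorem pz333 : data.powOK [6,4,1,9,7,3,2,1,10,11,8,5,0,1] 17 pwZ 199800 600 = true := by decide +kernel

theorem pe333 : Big.powEndOK data [8,5,0,1,2,3,4] 9 10 pwE 199800 600 = true := by decide +kernel

theorem rel334 : allRange 200400 600 nodeRel = true := by decide +kernel

theorem pz334 : data.powOK [6,4,1,9,7,3,2,1,10,11,8,5,0,1] 17 pwZ 200400 600 = true := by decide +kernel

theorem pe334 : Big.powEndOK data [8,5,0,1,2,3,4] 9 10 pwE 200400 600 = true := by decide +kernel

theorem rel335 : allRange 201000 600 nodeRel = true := by decide +kernel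

theorem pz335 : data.powOK [6,4,1,9,7,3,2,1,10,11,8,5,0,1] 17 pwZ 201000 600 = true := by decide +kernel

theorem pe335 : Big.powEndOK data [8,5,0,1,2,3,4] 9 10 pwE 201000 600 = true := by decide +kernel

end H47.Fi24.Tab
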