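import Cfsg.Agent.H47.Fi24.Tab.RelDef

/-!
Checks of the relators (generated).
-/

set_option autoImplicit false
set_option maxRecDepth 100000
set_option linter.all false
set_option Elab.async false

namespace H47.Fi24.Tab

open H93.Coset

theorem rel336 : allRange 201600 600 nodeRel = true := by decide +kernel

theorem pz336 : data.powOK [6,4,1,9,7,3,2,1,10,11,8,5,0,1] 17 pwZ 201600 600 = true := by decide +kernel

theorem pe336 : Big.powEndOK data [8,5,0,1,2,3,4] 9 10 pwE 201600 600 = true := by decide +kernel

theorem rel337 : allRange 202200 600 nodeRel = true := by decide +kernel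

theorem pz337 : data.powOK [6,4,1,9,7,3,2,1,10,11,8,5,0,1] 17 pwZ 202200 600 = true := by decide +kernel

theorem pe337 : Big.powEndOK data [8,5,0,1,2,3,4] 9 10 pwE 202200 600 = true := by decide +kernel

theorem rel338 : allRange 202800 600 nodeRel = true := by decide +kernel

theorem pz338 : data.powOK [6,4,1,9,7,3,2,1,10,11,8,5,0,1] 17 pwZ 202800 600 = true := by decide +kernel

theorem pe338 : Big.powEndOK data [8,5,0,1,2,3,4] 9 10 pwE 202800 600 = true := by decide +kernel

theorem rel339 : allRange 203400 600 nodeRel = true := by decide +kernel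

theorem pz339 : data.powOK [6,4,1,9,7,3,2,1,10,11,8,5,0,1] 17 pwZ 203400 600 = true := by decide +kernel

theorem pe339 : Big.powEndOK data [8,5,0,1,2,3,4] 9 10 pwE 203400 600 = true := by decide +kernel

theorem rel340 : allRange 204000 600 nodeRel = true := by decide +kernel

theorem pz340 : data.powOK [6,4,1,9,7,3,2,1,10,11,8,5,0,1] 17 pwZ 204000 600 = true := by decide +kernel

theorem pe340 : Big.powEndOK data [8,5,0,1,2,3,4] 9 10 pwE 204000 600 = true := by decide +kernel

theorem rel341 : allRange 204600 600 nodeRel = true := by decide +kernel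

theorem pz341 : data.powOK [6,4,1,9,7,3,2,1,10,11,8,5,0,1] 17 pwZ 204600 600 = true := by decide +kernel

theorem pe341 : Big.powEndOK data [8,5,0,1,2,3,4] 9 10 pwE 204600 600 = true := by decide +kernel

theorem rel342 : allRange 205200 600 nodeRel = true := by decide +kernel

theorem pz342 : data.powOK [6,4,1,9,7,3,2,1,10,11,8,5,0,1] 17 pwZ 205200 600 = true := by decide +kernel

theorem pe342 : Big.powEndOK data [8,5,0,1,2,3,4] 9 10 pwE 205200 600 = true := by decide +kernel

theorem rel343 : allRange 205800 600 nodeRel = true := by decide +kernel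

theorem pz343 : data.powOK [6,4,1,9,7,3,2,1,10,11,8,5,0,1] 17 pwZ 205800 600 = true := by decide +kernel

theorem pe343 : Big.powEndOK data [8,5,0,1,2,3,4] 9 10 pwE 205800 600 = true := by decide +kernel

theorem rel344 : allRange 206400 600 nodeRel = true := by decide +kernel

theorem pz344 : data.powOK [6,4,1,9,7,3,2,1,10,11,8,5,0,1] 17 pwZ 206400 600 = true := by decide +kernel

theorem pe344 : Big.powEndOK data [8,5,0,1,2,3,4] 9 10 pwE 206400 600 = true := by decide +kernel

theorem rel345 : allRange 207000 600 nodeRel = true := by decide +kernel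

theorem pz345 : data.powOK [6,4,1,9,7,3,2,1,10,11,8,5,0,1] 17 pwZ 207000 600 = true := by decide +kernel

theorem pe345 : Big.powEndOK data [8,5,0,1,2,3,4] 9 10 pwE 207000 600 = true := by decide +kernel

theorem rel346 : allRange 207600 600 nodeRel = true := by decide +kernel

theorem pz346 : data.powOK [6,4,1,9,7,3,2,1,10,11,8,5,0,1] 17 pwZ 207600 600 = true := by decide +kernel

theorem pe346 : Big.powEndOK data [8,5,0,1,2,3,4] 9 10 pwE 207600 600 = true := by decide +kernel

theorem rel347 : allRange 208200 600 nodeRel = true := by decide +kernel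

theorem pz347 : data.powOK [6,4,1,9,7,3,2,1,10,11,8,5,0,1] 17 pwZ 208200 600 = true := by decide +kernel

theorem pe347 : Big.powEndOK data [8,5,0,1,2,3,4] 9 10 pwE 208200 600 = true := by decide +kernel

theorem rel348 : allRange 208800 600 nodeRel = true := by decide +kernel

theorem pz348 : data.powOK [6,4,1,9,7,3,2,1,10,11,8,5,0,1] 17 pwZ 208800 600 = true := by decide +kernel

theorem pe348 : Big.powEndOK data [8,5,0,1,2,3,4] 9 10 pwE 208800 600 = true := by decide +kernel

theorem rel349 : allRange 209400 600 nodeRel = true := by decide +kernel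

theorem pz349 : data.powOK [6,4,1,9,7,3,2,1,10,11,8,5,0,1] 17 pwZ 209400 600 = true := by decide +kernel

theorem pe349 : Big.powEndOK data [8,5,0,1,2,3,4] 9 10 pwE 209400 600 = true := by decide +kernel

theorem rel350 : allRange 210000 600 nodeRel = true := by decide +kernel

theorem pz350 : data.powOK [6,4,1,9,7,3,2,1,10,11,8,5,0,1] 17 pwZ 210000 600 = true := by decide +kernel

theorem pe350 : Big.powEndOK data [8,5,0,1,2,3,4] 9 10 pwE 210000 600 = true := by decide +kernel

theorem rel351 : allRange 210600 600 nodeRel = true := by decide +kernel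

theorem pz351 : data.powOK [6,4,1,9,7,3,2,1,10,11,8,5,0,1] 17 pwZ 210600 600 = true := by decide +kernel

theorem pe351 : Big.powEndOK data [8,5,0,1,2,3,4] 9 10 pwE 210600 600 = true := by decide +kernel

end H47.Fi24.Tab
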