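import Cfsg.Agent.H47.Fi24.Tab.RelDef

/-!
Checks of the relators (generated).
-/

set_option autoImplicit false
set_option maxRecDepth 100000
set_option linter.all false
set_option Elab.async false

namespace H47.Fi24.Tab

open H93.Coset

theorem rel352 : allRange 211200 600 nodeRel = true := by decide +kernel

theorem pz352 : data.powOK [6,4,1,9,7,3,2,1,10,11,8,5,0,1] 17 pwZ 211200 600 = true := by decide +kernel

theorem pe352 : Big.powEndOK data [8,5,0,1,2,3,4] 9 10 pwE 211200 600 = true := by decide +kernel

theorem rel353 : allRange 211800 600 nodeRel = true := by decide +kernel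

theorem pz353 : data.powOK [6,4,1,9,7,3,2,1,10,11,8,5,0,1] 17 pwZ 211800 600 = true := by decide +kernel

theorem pe353 : Big.powEndOK data [8,5,0,1,2,3,4] 9 10 pwE 211800 600 = true := by decide +kernel

theorem rel354 : allRange 212400 600 nodeRel = true := by decide +kernel

theorem pz354 : data.powOK [6,4,1,9,7,3,2,1,10,11,8,5,0,1] 17 pwZ 212400 600 = true := by decide +kernel

theorem pe354 : Big.powEndOK data [8,5,0,1,2,3,4] 9 10 pwE 212400 600 = true := by decide +kernel

theorem rel355 : allRange 213000 600 nodeRel = true := by decide +kernel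

theorem pz355 : data.powOK [6,4,1,9,7,3,2,1,10,11,8,5,0,1] 17 pwZ 213000 600 = true := by decide +kernel

theorem pe355 : Big.powEndOK data [8,5,0,1,2,3,4] 9 10 pwE 213000 600 = true := by decide +kernel

theorem rel356 : allRange 213600 600 nodeRel = true := by decide +kernel

theorem pz356 : data.powOK [6,4,1,9,7,3,2,1,10,11,8,5,0,1] 17 pwZ 213600 600 = true := by decide +kernel

theorem pe356 : Big.powEndOK data [8,5,0,1,2,3,4] 9 10 pwE 213600 600 = true := by decide +kernel

theorem rel357 : allRange 214200 600 nodeRel = true := by decide +kernel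

theorem pz357 : data.powOK [6,4,1,9,7,3,2,1,10,11,8,5,0,1] 17 pwZ 214200 600 = true := by decide +kernel

theorem pe357 : Big.powEndOK data [8,5,0,1,2,3,4] 9 10 pwE 214200 600 = true := by decide +kernel

theorem rel358 : allRange 214800 600 nodeRel = true := by decide +kernel

theorem pz358 : data.powOK [6,4,1,9,7,3,2,1,10,11,8,5,0,1] 17 pwZ 214800 600 = true := by decide +kernel

theorem pe358 : Big.powEndOK data [8,5,0,1,2,3,4] 9 10 pwE 214800 600 = true := by decide +kernel

theorem rel359 : allRange 215400 600 nodeRel = true := by decide +kernel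

theorem pz359 : data.powOK [6,4,1,9,7,3,2,1,10,11,8,5,0,1] 17 pwZ 215400 600 = true := by decide +kernel

theorem pe359 : Big.powEndOK data [8,5,0,1,2,3,4] 9 10 pwE 215400 600 = true := by decide +kernel

theorem rel360 : allRange 216000 600 nodeRel = true := by decide +kernel

theorem pz360 : data.powOK [6,4,1,9,7,3,2,1,10,11,8,5,0,1] 17 pwZ 216000 600 = true := by decide +kernel

theorem pe360 : Big.powEndOK data [8,5,0,1,2,3,4] 9 10 pwE 216000 600 = true := by decide +kernel

theorem rel361 : allRange 216600 600 nodeRel = true := by decide +kernel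

theorem pz361 : data.powOK [6,4,1,9,7,3,2,1,10,11,8,5,0,1] 17 pwZ 216600 600 = true := by decide +kernel

theorem pe361 : Big.powEndOK data [8,5,0,1,2,3,4] 9 10 pwE 216600 600 = true := by decide +kernel

theorem rel362 : allRange 217200 600 nodeRel = true := by decide +kernel

theorem pz362 : data.powOK [6,4,1,9,7,3,2,1,10,11,8,5,0,1] 17 pwZ 217200 600 = true := by decide +kernel

theorem pe362 : Big.powEndOK data [8,5,0,1,2,3,4] 9 10 pwE 217200 600 = true := by decide +kernel

theorem rel363 : allRange 217800 600 nodeRel = true := by decide +kernel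

theorem pz363 : data.powOK [6,4,1,9,7,3,2,1,10,11,8,5,0,1] 17 pwZ 217800 600 = true := by decide +kernel

theorem pe363 : Big.powEndOK data [8,5,0,1,2,3,4] 9 10 pwE 217800 600 = true := by decide +kernel

theorem rel364 : allRange 218400 600 nodeRel = true := by decide +kernel

theorem pz364 : data.powOK [6,4,1,9,7,3,2,1,10,11,8,5,0,1] 17 pwZ 218400 600 = true := by decide +kernel

theorem pe364 : Big.powEndOK data [8,5,0,1,2,3,4] 9 10 pwE 218400 600 = true := by decide +kernel

theorem rel365 : allRange 219000 600 nodeRel = true := by decide +kernel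

theorem pz365 : data.powOK [6,4,1,9,7,3,2,1,10,11,8,5,0,1] 17 pwZ 219000 600 = true := by decide +kernel

theorem pe365 : Big.powEndOK data [8,5,0,1,2,3,4] 9 10 pwE 219000 600 = true := by decide +kernel

theorem rel366 : allRange 219600 600 nodeRel = true := by decide +kernel

theorem pz366 : data.powOK [6,4,1,9,7,3,2,1,10,11,8,5,0,1] 17 pwZ 219600 600 = true := by decide +kernel

theorem pe366 : Big.powEndOK data [8,5,0,1,2,3,4] 9 10 pwE 219600 600 = true := by decide +kernel

theorem rel367 : allRange 220200 600 nodeRel = true := by decide +kernel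

theorem pz367 : data.powOK [6,4,1,9,7,3,2,1,10,11,8,5,0,1] 17 pwZ 220200 600 = true := by decide +kernel

theorem pe367 : Big.powEndOK data [8,5,0,1,2,3,4] 9 10 pwE 220200 600 = true := by decide +kernel

end H47.Fi24.Tab
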