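import Cfsg.Agent.H47.Fi24.Tab.RelDef

/-!
Checks of the relators (generated).
-/

set_option autoImplicit false
set_option maxRecDepth 100000
set_option linter.all false
set_option Elab.async false

namespace H47.Fi24.Tab

open H93.Coset

theorem rel368 : allRange 220800 600 nodeRel = true := by decide +kernel

theorem pz368 : data.powOK [6,4,1,9,7,3,2,1,10,11,8,5,0,1] 17 pwZ 220800 600 = true := by decide +kernel

theorem pe368 : Big.powEndOK data [8,5,0,1,2,3,4] 9 10 pwE 220800 600 = true := by decide +kernel

theorem rel369 : allRange 221400 600 nodeRel = true := by decide +kernel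

theorem pz369 : data.powOK [6,4,1,9,7,3,2,1,10,11,8,5,0,1] 17 pwZ 221400 600 = true := by decide +kernel

theorem pe369 : Big.powEndOK data [8,5,0,1,2,3,4] 9 10 pwE 221400 600 = true := by decide +kernel

theorem rel370 : allRange 222000 600 nodeRel = true := by decide +kernel

theorem pz370 : data.powOK [6,4,1,9,7,3,2,1,10,11,8,5,0,1] 17 pwZ 222000 600 = true := by decide +kernel

theorem pe370 : Big.powEndOK data [8,5,0,1,2,3,4] 9 10 pwE 222000 600 = true := by decide +kernel

theorem rel371 : allRange 222600 600 nodeRel = true := by decide +kernel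

theorem pz371 : data.powOK [6,4,1,9,7,3,2,1,10,11,8,5,0,1] 17 pwZ 222600 600 = true := by decide +kernel

theorem pe371 : Big.powEndOK data [8,5,0,1,2,3,4] 9 10 pwE 222600 600 = true := by decide +kernel

theorem rel372 : allRange 223200 600 nodeRel = true := by decide +kernel

theorem pz372 : data.powOK [6,4,1,9,7,3,2,1,10,11,8,5,0,1] 17 pwZ 223200 600 = true := by decide +kernel

theorem pe372 : Big.powEndOK data [8,5,0,1,2,3,4] 9 10 pwE 223200 600 = true := by decide +kernel

theorem rel373 : allRange 223800 600 nodeRel = true := by decide +kernel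

theorem pz373 : data.powOK [6,4,1,9,7,3,2,1,10,11,8,5,0,1] 17 pwZ 223800 600 = true := by decide +kernel

theorem pe373 : Big.powEndOK data [8,5,0,1,2,3,4] 9 10 pwE 223800 600 = true := by decide +kernel

theorem rel374 : allRange 224400 600 nodeRel = true := by decide +kernel

theorem pz374 : data.powOK [6,4,1,9,7,3,2,1,10,11,8,5,0,1] 17 pwZ 224400 600 = true := by decide +kernel

theorem pe374 : Big.powEndOK data [8,5,0,1,2,3,4] 9 10 pwE 224400 600 = true := by decide +kernel

theorem rel375 : allRange 225000 600 nodeRel = true := by decide +kernel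

theorem pz375 : data.powOK [6,4,1,9,7,3,2,1,10,11,8,5,0,1] 17 pwZ 225000 600 = true := by decide +kernel

theorem pe375 : Big.powEndOK data [8,5,0,1,2,3,4] 9 10 pwE 225000 600 = true := by decide +kernel

theorem rel376 : allRange 225600 600 nodeRel = true := by decide +kernel

theorem pz376 : data.powOK [6,4,1,9,7,3,2,1,10,11,8,5,0,1] 17 pwZ 225600 600 = true := by decide +kernel

theorem pe376 : Big.powEndOK data [8,5,0,1,2,3,4] 9 10 pwE 225600 600 = true := by decide +kernel

theorem rel377 : allRange 226200 600 nodeRel = true := by decide +kernel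

theorem pz377 : data.powOK [6,4,1,9,7,3,2,1,10,11,8,5,0,1] 17 pwZ 226200 600 = true := by decide +kernel

theorem pe377 : Big.powEndOK data [8,5,0,1,2,3,4] 9 10 pwE 226200 600 = true := by decide +kernel

theorem rel378 : allRange 226800 600 nodeRel = true := by decide +kernel

theorem pz378 : data.powOK [6,4,1,9,7,3,2,1,10,11,8,5,0,1] 17 pwZ 226800 600 = true := by decide +kernel

theorem pe378 : Big.powEndOK data [8,5,0,1,2,3,4] 9 10 pwE 226800 600 = true := by decide +kernel

theorem rel379 : allRange 227400 600 nodeRel = true := by decide +kernel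

theorem pz379 : data.powOK [6,4,1,9,7,3,2,1,10,11,8,5,0,1] 17 pwZ 227400 600 = true := by decide +kernel

theorem pe379 : Big.powEndOK data [8,5,0,1,2,3,4] 9 10 pwE 227400 600 = true := by decide +kernel

theorem rel380 : allRange 228000 600 nodeRel = true := by decide +kernel

theorem pz380 : data.powOK [6,4,1,9,7,3,2,1,10,11,8,5,0,1] 17 pwZ 228000 600 = true := by decide +kernel

theorem pe380 : Big.powEndOK data [8,5,0,1,2,3,4] 9 10 pwE 228000 600 = true := by decide +kernel

theorem rel381 : allRange 228600 600 nodeRel = true := by decide +kernel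

theorem pz381 : data.powOK [6,4,1,9,7,3,2,1,10,11,8,5,0,1] 17 pwZ 228600 600 = true := by decide +kernel

theorem pe381 : Big.powEndOK data [8,5,0,1,2,3,4] 9 10 pwE 228600 600 = true := by decide +kernel

theorem rel382 : allRange 229200 600 nodeRel = true := by decide +kernel

theorem pz382 : data.powOK [6,4,1,9,7,3,2,1,10,11,8,5,0,1] 17 pwZ 229200 600 = true := by decide +kernel

theorem pe382 : Big.powEndOK data [8,5,0,1,2,3,4] 9 10 pwE 229200 600 = true := by decide +kernel

theorem rel383 : allRange 229800 600 nodeRel = true := by decide +kernel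

theorem pz383 : data.powOK [6,4,1,9,7,3,2,1,10,11,8,5,0,1] 17 pwZ 229800 600 = true := by decide +kernel

theorem pe383 : Big.powEndOK data [8,5,0,1,2,3,4] 9 10 pwE 229800 600 = true := by decide +kernel

end H47.Fi24.Tab
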