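import Cfsg.Agent.H47.Fi24.Tab.RelDef

/-!
Checks of the relators (generated).
-/

set_option autoImplicit false
set_option maxRecDepth 100000
set_option linter.all false
set_option Elab.async false

namespace H47.Fi24.Tab

open H93.Coset

theorem rel384 : allRange 230400 600 nodeRel = true := by decide +kernel

theorem pz384 : data.powOK [6,4,1,9,7,3,2,1,10,11,8,5,0,1] 17 pwZ 230400 600 = true := by decide +kernel

theorem pe384 : Big.powEndOK data [8,5,0,1,2,3,4] 9 10 pwE 230400 600 = true := by decide +kernel

theorem rel385 : allRange 231000 600 nodeRel = true := by decide +kernel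

theorem pz385 : data.powOK [6,4,1,9,7,3,2,1,10,11,8,5,0,1] 17 pwZ 231000 600 = true := by decide +kernel

theorem pe385 : Big.powEndOK data [8,5,0,1,2,3,4] 9 10 pwE 231000 600 = true := by decide +kernel

theorem rel386 : allRange 231600 600 nodeRel = true := by decide +kernel

theorem pz386 : data.powOK [6,4,1,9,7,3,2,1,10,11,8,5,0,1] 17 pwZ 231600 600 = true := by decide +kernel

theorem pe386 : Big.powEndOK data [8,5,0,1,2,3,4] 9 10 pwE 231600 600 = true := by decide +kernel

theorem rel387 : allRange 232200 600 nodeRel = true := by decide +kernel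

theorem pz387 : data.powOK [6,4,1,9,7,3,2,1,10,11,8,5,0,1] 17 pwZ 232200 600 = true := by decide +kernel

theorem pe387 : Big.powEndOK data [8,5,0,1,2,3,4] 9 10 pwE 232200 600 = true := by decide +kernel

theorem rel388 : allRange 232800 600 nodeRel = true := by decide +kernel

theorem pz388 : data.powOK [6,4,1,9,7,3,2,1,10,11,8,5,0,1] 17 pwZ 232800 600 = true := by decide +kernel

theorem pe388 : Big.powEndOK data [8,5,0,1,2,3,4] 9 10 pwE 232800 600 = true := by decide +kernel

theorem rel389 : allRange 233400 600 nodeRel = true := by decide +kernel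

theorem pz389 : data.powOK [6,4,1,9,7,3,2,1,10,11,8,5,0,1] 17 pwZ 233400 600 = true := by decide +kernel

theorem pe389 : Big.powEndOK data [8,5,0,1,2,3,4] 9 10 pwE 233400 600 = true := by decide +kernel

theorem rel390 : allRange 234000 600 nodeRel = true := by decide +kernel

theorem pz390 : data.powOK [6,4,1,9,7,3,2,1,10,11,8,5,0,1] 17 pwZ 234000 600 = true := by decide +kernel

theorem pe390 : Big.powEndOK data [8,5,0,1,2,3,4] 9 10 pwE 234000 600 = true := by decide +kernel

theorem rel391 : allRange 234600 600 nodeRel = true := by decide +kernel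

theorem pz391 : data.powOK [6,4,1,9,7,3,2,1,10,11,8,5,0,1] 17 pwZ 234600 600 = true := by decide +kernel

theorem pe391 : Big.powEndOK data [8,5,0,1,2,3,4] 9 10 pwE 234600 600 = true := by decide +kernel

theorem rel392 : allRange 235200 600 nodeRel = true := by decide +kernel

theorem pz392 : data.powOK [6,4,1,9,7,3,2,1,10,11,8,5,0,1] 17 pwZ 235200 600 = true := by decide +kernel

theorem pe392 : Big.powEndOK data [8,5,0,1,2,3,4] 9 10 pwE 235200 600 = true := by decide +kernel

theorem rel393 : allRange 235800 600 nodeRel = true := by decide +kernel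

theorem pz393 : data.powOK [6,4,1,9,7,3,2,1,10,11,8,5,0,1] 17 pwZ 235800 600 = true := by decide +kernel

theorem pe393 : Big.powEndOK data [8,5,0,1,2,3,4] 9 10 pwE 235800 600 = true := by decide +kernel

theorem rel394 : allRange 236400 600 nodeRel = true := by decide +kernel

theorem pz394 : data.powOK [6,4,1,9,7,3,2,1,10,11,8,5,0,1] 17 pwZ 236400 600 = true := by decide +kernel

theorem pe394 : Big.powEndOK data [8,5,0,1,2,3,4] 9 10 pwE 236400 600 = true := by decide +kernel

theorem rel395 : allRange 237000 600 nodeRel = true := by decide +kernel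

theorem pz395 : data.powOK [6,4,1,9,7,3,2,1,10,11,8,5,0,1] 17 pwZ 237000 600 = true := by decide +kernel

theorem pe395 : Big.powEndOK data [8,5,0,1,2,3,4] 9 10 pwE 237000 600 = true := by decide +kernel

theorem rel396 : allRange 237600 600 nodeRel = true := by decide +kernel

theorem pz396 : data.powOK [6,4,1,9,7,3,2,1,10,11,8,5,0,1] 17 pwZ 237600 600 = true := by decide +kernel

theorem pe396 : Big.powEndOK data [8,5,0,1,2,3,4] 9 10 pwE 237600 600 = true := by decide +kernel

theorem rel397 : allRange 238200 600 nodeRel = true := by decide +kernel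

theorem pz397 : data.powOK [6,4,1,9,7,3,2,1,10,11,8,5,0,1] 17 pwZ 238200 600 = true := by decide +kernel

theorem pe397 : Big.powEndOK data [8,5,0,1,2,3,4] 9 10 pwE 238200 600 = true := by decide +kernel

theorem rel398 : allRange 238800 600 nodeRel = true := by decide +kernel

theorem pz398 : data.powOK [6,4,1,9,7,3,2,1,10,11,8,5,0,1] 17 pwZ 238800 600 = true := by decide +kernel

theorem pe398 : Big.powEndOK data [8,5,0,1,2,3,4] 9 10 pwE 238800 600 = true := by decide +kernel

theorem rel399 : allRange 239400 600 nodeRel = true := by decide +kernel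

theorem pz399 : data.powOK [6,4,1,9,7,3,2,1,10,11,8,5,0,1] 17 pwZ 239400 600 = true := by decide +kernel

theorem pe399 : Big.powEndOK data [8,5,0,1,2,3,4] 9 10 pwE 239400 600 = true := by decide +kernel

end H47.Fi24.Tab
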