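import Cfsg.Agent.H47.Fi24.Tab.RelDef

/-!
Checks of the relators (generated).
-/

set_option autoImplicit false
set_option maxRecDepth 100000
set_option linter.all false
set_option Elab.async false

namespace H47.Fi24.Tab

open H93.Coset

theorem rel400 : allRange 240000 600 nodeRel = true := by decide +kernel

theorem pz400 : data.powOK [6,4,1,9,7,3,2,1,10,11,8,5,0,1] 17 pwZ 240000 600 = true := by decide +kernel

theorem pe400 : Big.powEndOK data [8,5,0,1,2,3,4] 9 10 pwE 240000 600 = true := by decide +kernel

theorem rel401 : allRange 240600 600 nodeRel = true := by decide +kernel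

theorem pz401 : data.powOK [6,4,1,9,7,3,2,1,10,11,8,5,0,1] 17 pwZ 240600 600 = true := by decide +kernel

theorem pe401 : Big.powEndOK data [8,5,0,1,2,3,4] 9 10 pwE 240600 600 = true := by decide +kernel

theorem rel402 : allRange 241200 600 nodeRel = true := by decide +kernel

theorem pz402 : data.powOK [6,4,1,9,7,3,2,1,10,11,8,5,0,1] 17 pwZ 241200 600 = true := by decide +kernel

theorem pe402 : Big.powEndOK data [8,5,0,1,2,3,4] 9 10 pwE 241200 600 = true := by decide +kernel

theorem rel403 : allRange 241800 600 nodeRel = true := by decide +kernel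

theorem pz403 : data.powOK [6,4,1,9,7,3,2,1,10,11,8,5,0,1] 17 pwZ 241800 600 = true := by decide +kernel

theorem pe403 : Big.powEndOK data [8,5,0,1,2,3,4] 9 10 pwE 241800 600 = true := by decide +kernel

theorem rel404 : allRange 242400 600 nodeRel = true := by decide +kernel

theorem pz404 : data.powOK [6,4,1,9,7,3,2,1,10,11,8,5,0,1] 17 pwZ 242400 600 = true := by decide +kernel

theorem pe404 : Big.powEndOK data [8,5,0,1,2,3,4] 9 10 pwE 242400 600 = true := by decide +kernel

theorem rel405 : allRange 243000 600 nodeRel = true := by decide +kernel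

theorem pz405 : data.powOK [6,4,1,9,7,3,2,1,10,11,8,5,0,1] 17 pwZ 243000 600 = true := by decide +kernel

theorem pe405 : Big.powEndOK data [8,5,0,1,2,3,4] 9 10 pwE 243000 600 = true := by decide +kernel

theorem rel406 : allRange 243600 600 nodeRel = true := by decide +kernel

theorem pz406 : data.powOK [6,4,1,9,7,3,2,1,10,11,8,5,0,1] 17 pwZ 243600 600 = true := by decide +kernel

theorem pe406 : Big.powEndOK data [8,5,0,1,2,3,4] 9 10 pwE 243600 600 = true := by decide +kernel

theorem rel407 : allRange 244200 600 nodeRel = true := by decide +kernel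

theorem pz407 : data.powOK [6,4,1,9,7,3,2,1,10,11,8,5,0,1] 17 pwZ 244200 600 = true := by decide +kernel

theorem pe407 : Big.powEndOK data [8,5,0,1,2,3,4] 9 10 pwE 244200 600 = true := by decide +kernel

theorem rel408 : allRange 244800 600 nodeRel = true := by decide +kernel

theorem pz408 : data.powOK [6,4,1,9,7,3,2,1,10,11,8,5,0,1] 17 pwZ 244800 600 = true := by decide +kernel

theorem pe408 : Big.powEndOK data [8,5,0,1,2,3,4] 9 10 pwE 244800 600 = true := by decide +kernel

theorem rel409 : allRange 245400 600 nodeRel = true := by decide +kernel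

theorem pz409 : data.powOK [6,4,1,9,7,3,2,1,10,11,8,5,0,1] 17 pwZ 245400 600 = true := by decide +kernel

theorem pe409 : Big.powEndOK data [8,5,0,1,2,3,4] 9 10 pwE 245400 600 = true := by decide +kernel

theorem rel410 : allRange 246000 600 nodeRel = true := by decide +kernel

theorem pz410 : data.powOK [6,4,1,9,7,3,2,1,10,11,8,5,0,1] 17 pwZ 246000 600 = true := by decide +kernel

theorem pe410 : Big.powEndOK data [8,5,0,1,2,3,4] 9 10 pwE 246000 600 = true := by decide +kernel

theorem rel411 : allRange 246600 600 nodeRel = true := by decide +kernel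

theorem pz411 : data.powOK [6,4,1,9,7,3,2,1,10,11,8,5,0,1] 17 pwZ 246600 600 = true := by decide +kernel

theorem pe411 : Big.powEndOK data [8,5,0,1,2,3,4] 9 10 pwE 246600 600 = true := by decide +kernel

theorem rel412 : allRange 247200 600 nodeRel = true := by decide +kernel

theorem pz412 : data.powOK [6,4,1,9,7,3,2,1,10,11,8,5,0,1] 17 pwZ 247200 600 = true := by decide +kernel

theorem pe412 : Big.powEndOK data [8,5,0,1,2,3,4] 9 10 pwE 247200 600 = true := by decide +kernel

theorem rel413 : allRange 247800 600 nodeRel = true := by decide +kernel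

theorem pz413 : data.powOK [6,4,1,9,7,3,2,1,10,11,8,5,0,1] 17 pwZ 247800 600 = true := by decide +kernel

theorem pe413 : Big.powEndOK data [8,5,0,1,2,3,4] 9 10 pwE 247800 600 = true := by decide +kernel

theorem rel414 : allRange 248400 600 nodeRel = true := by decide +kernel

theorem pz414 : data.powOK [6,4,1,9,7,3,2,1,10,11,8,5,0,1] 17 pwZ 248400 600 = true := by decide +kernel

theorem pe414 : Big.powEndOK data [8,5,0,1,2,3,4] 9 10 pwE 248400 600 = true := by decide +kernel

theorem rel415 : allRange 249000 600 nodeRel = true := by decide +kernel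

theorem pz415 : data.powOK [6,4,1,9,7,3,2,1,10,11,8,5,0,1] 17 pwZ 249000 600 = true := by decide +kernel

theorem pe415 : Big.powEndOK data [8,5,0,1,2,3,4] 9 10 pwE 249000 600 = true := by decide +kernel

end H47.Fi24.Tab
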