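import Cfsg.Agent.H47.Fi24.Tab.RelDef

/-!
Checks of the relators (generated).
-/

set_option autoImplicit false
set_option maxRecDepth 100000
set_option linter.all false
set_option Elab.async false

namespace H47.Fi24.Tab

open H93.Coset

theorem rel416 : allRange 249600 600 nodeRel = true := by decide +kernel

theorem pz416 : data.powOK [6,4,1,9,7,3,2,1,10,11,8,5,0,1] 17 pwZ 249600 600 = true := by decide +kernel

theorem pe416 : Big.powEndOK data [8,5,0,1,2,3,4] 9 10 pwE 249600 600 = true := by decide +kernel

theorem rel417 : allRange 250200 600 nodeRel = true := by decide +kernel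

theorem pz417 : data.powOK [6,4,1,9,7,3,2,1,10,11,8,5,0,1] 17 pwZ 250200 600 = true := by decide +kernel

theorem pe417 : Big.powEndOK data [8,5,0,1,2,3,4] 9 10 pwE 250200 600 = true := by decide +kernel

theorem rel418 : allRange 250800 600 nodeRel = true := by decide +kernel

theorem pz418 : data.powOK [6,4,1,9,7,3,2,1,10,11,8,5,0,1] 17 pwZ 250800 600 = true := by decide +kernel

theorem pe418 : Big.powEndOK data [8,5,0,1,2,3,4] 9 10 pwE 250800 600 = true := by decide +kernel

theorem rel419 : allRange 251400 600 nodeRel = true := by decide +kernel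

theorem pz419 : data.powOK [6,4,1,9,7,3,2,1,10,11,8,5,0,1] 17 pwZ 251400 600 = true := by decide +kernel

theorem pe419 : Big.powEndOK data [8,5,0,1,2,3,4] 9 10 pwE 251400 600 = true := by decide +kernel

theorem rel420 : allRange 252000 600 nodeRel = true := by decide +kernel

theorem pz420 : data.powOK [6,4,1,9,7,3,2,1,10,11,8,5,0,1] 17 pwZ 252000 600 = true := by decide +kernel

theorem pe420 : Big.powEndOK data [8,5,0,1,2,3,4] 9 10 pwE 252000 600 = true := by decide +kernel

theorem rel421 : allRange 252600 600 nodeRel = true := by decide +kernel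

theorem pz421 : data.powOK [6,4,1,9,7,3,2,1,10,11,8,5,0,1] 17 pwZ 252600 600 = true := by decide +kernel

theorem pe421 : Big.powEndOK data [8,5,0,1,2,3,4] 9 10 pwE 252600 600 = true := by decide +kernel

theorem rel422 : allRange 253200 600 nodeRel = true := by decide +kernel

theorem pz422 : data.powOK [6,4,1,9,7,3,2,1,10,11,8,5,0,1] 17 pwZ 253200 600 = true := by decide +kernel

theorem pe422 : Big.powEndOK data [8,5,0,1,2,3,4] 9 10 pwE 253200 600 = true := by decide +kernel

theorem rel423 : allRange 253800 600 nodeRel = true := by decide +kernel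

theorem pz423 : data.powOK [6,4,1,9,7,3,2,1,10,11,8,5,0,1] 17 pwZ 253800 600 = true := by decide +kernel

theorem pe423 : Big.powEndOK data [8,5,0,1,2,3,4] 9 10 pwE 253800 600 = true := by decide +kernel

theorem rel424 : allRange 254400 600 nodeRel = true := by decide +kernel

theorem pz424 : data.powOK [6,4,1,9,7,3,2,1,10,11,8,5,0,1] 17 pwZ 254400 600 = true := by decide +kernel

theorem pe424 : Big.powEndOK data [8,5,0,1,2,3,4] 9 10 pwE 254400 600 = true := by decide +kernel

theorem rel425 : allRange 255000 600 nodeRel = true := by decide +kernel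

theorem pz425 : data.powOK [6,4,1,9,7,3,2,1,10,11,8,5,0,1] 17 pwZ 255000 600 = true := by decide +kernel

theorem pe425 : Big.powEndOK data [8,5,0,1,2,3,4] 9 10 pwE 255000 600 = true := by decide +kernel

theorem rel426 : allRange 255600 600 nodeRel = true := by decide +kernel

theorem pz426 : data.powOK [6,4,1,9,7,3,2,1,10,11,8,5,0,1] 17 pwZ 255600 600 = true := by decide +kernel

theorem pe426 : Big.powEndOK data [8,5,0,1,2,3,4] 9 10 pwE 255600 600 = true := by decide +kernel

theorem rel427 : allRange 256200 600 nodeRel = true := by decide +kernel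

theorem pz427 : data.powOK [6,4,1,9,7,3,2,1,10,11,8,5,0,1] 17 pwZ 256200 600 = true := by decide +kernel

theorem pe427 : Big.powEndOK data [8,5,0,1,2,3,4] 9 10 pwE 256200 600 = true := by decide +kernel

theorem rel428 : allRange 256800 600 nodeRel = true := by decide +kernel

theorem pz428 : data.powOK [6,4,1,9,7,3,2,1,10,11,8,5,0,1] 17 pwZ 256800 600 = true := by decide +kernel

theorem pe428 : Big.powEndOK data [8,5,0,1,2,3,4] 9 10 pwE 256800 600 = true := by decide +kernel

theorem rel429 : allRange 257400 600 nodeRel = true := by decide +kernel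

theorem pz429 : data.powOK [6,4,1,9,7,3,2,1,10,11,8,5,0,1] 17 pwZ 257400 600 = true := by decide +kernel

theorem pe429 : Big.powEndOK data [8,5,0,1,2,3,4] 9 10 pwE 257400 600 = true := by decide +kernel

theorem rel430 : allRange 258000 600 nodeRel = true := by decide +kernel

theorem pz430 : data.powOK [6,4,1,9,7,3,2,1,10,11,8,5,0,1] 17 pwZ 258000 600 = true := by decide +kernel

theorem pe430 : Big.powEndOK data [8,5,0,1,2,3,4] 9 10 pwE 258000 600 = true := by decide +kernel

theorem rel431 : allRange 258600 600 nodeRel = true := by decide +kernel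

theorem pz431 : data.powOK [6,4,1,9,7,3,2,1,10,11,8,5,0,1] 17 pwZ 258600 600 = true := by decide +kernel

theorem pe431 : Big.powEndOK data [8,5,0,1,2,3,4] 9 10 pwE 258600 600 = true := by decide +kernel

end H47.Fi24.Tab
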