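import Cfsg.Agent.H47.Fi24.Tab.RelDef

/-!
Checks of the relators (generated).
-/

set_option autoImplicit false
set_option maxRecDepth 100000
set_option linter.all false
set_option Elab.async false

namespace H47.Fi24.Tab

open H93.Coset

theorem rel432 : allRange 259200 600 nodeRel = true := by decide +kernel

theorem pz432 : data.powOK [6,4,1,9,7,3,2,1,10,11,8,5,0,1] 17 pwZ 259200 600 = true := by decide +kernel

theorem pe432 : Big.powEndOK data [8,5,0,1,2,3,4] 9 10 pwE 259200 600 = true := by decide +kernel

theorem rel433 : allRange 259800 600 nodeRel = true := by decide +kernel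

theorem pz433 : data.powOK [6,4,1,9,7,3,2,1,10,11,8,5,0,1] 17 pwZ 259800 600 = true := by decide +kernel

theorem pe433 : Big.powEndOK data [8,5,0,1,2,3,4] 9 10 pwE 259800 600 = true := by decide +kernel

theorem rel434 : allRange 260400 600 nodeRel = true := by decide +kernel

theorem pz434 : data.powOK [6,4,1,9,7,3,2,1,10,11,8,5,0,1] 17 pwZ 260400 600 = true := by decide +kernel

theorem pe434 : Big.powEndOK data [8,5,0,1,2,3,4] 9 10 pwE 260400 600 = true := by decide +kernel

theorem rel435 : allRange 261000 600 nodeRel = true := by decide +kernel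

theorem pz435 : data.powOK [6,4,1,9,7,3,2,1,10,11,8,5,0,1] 17 pwZ 261000 600 = true := by decide +kernel

theorem pe435 : Big.powEndOK data [8,5,0,1,2,3,4] 9 10 pwE 261000 600 = true := by decide +kernel

theorem rel436 : allRange 261600 600 nodeRel = true := by decide +kernel

theorem pz436 : data.powOK [6,4,1,9,7,3,2,1,10,11,8,5,0,1] 17 pwZ 261600 600 = true := by decide +kernel

theorem pe436 : Big.powEndOK data [8,5,0,1,2,3,4] 9 10 pwE 261600 600 = true := by decide +kernel

theorem rel437 : allRange 262200 600 nodeRel = true := by decide +kernel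

theorem pz437 : data.powOK [6,4,1,9,7,3,2,1,10,11,8,5,0,1] 17 pwZ 262200 600 = true := by decide +kernel

theorem pe437 : Big.powEndOK data [8,5,0,1,2,3,4] 9 10 pwE 262200 600 = true := by decide +kernel

theorem rel438 : allRange 262800 600 nodeRel = true := by decide +kernel

theorem pz438 : data.powOK [6,4,1,9,7,3,2,1,10,11,8,5,0,1] 17 pwZ 262800 600 = true := by decide +kernel

theorem pe438 : Big.powEndOK data [8,5,0,1,2,3,4] 9 10 pwE 262800 600 = true := by decide +kernel

theorem rel439 : allRange 263400 600 nodeRel = true := by decide +kernel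

theorem pz439 : data.powOK [6,4,1,9,7,3,2,1,10,11,8,5,0,1] 17 pwZ 263400 600 = true := by decide +kernel

theorem pe439 : Big.powEndOK data [8,5,0,1,2,3,4] 9 10 pwE 263400 600 = true := by decide +kernel

theorem rel440 : allRange 264000 600 nodeRel = true := by decide +kernel

theorem pz440 : data.powOK [6,4,1,9,7,3,2,1,10,11,8,5,0,1] 17 pwZ 264000 600 = true := by decide +kernel

theorem pe440 : Big.powEndOK data [8,5,0,1,2,3,4] 9 10 pwE 264000 600 = true := by decide +kernel

theorem rel441 : allRange 264600 600 nodeRel = true := by decide +kernel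

theorem pz441 : data.powOK [6,4,1,9,7,3,2,1,10,11,8,5,0,1] 17 pwZ 264600 600 = true := by decide +kernel

theorem pe441 : Big.powEndOK data [8,5,0,1,2,3,4] 9 10 pwE 264600 600 = true := by decide +kernel

theorem rel442 : allRange 265200 600 nodeRel = true := by decide +kernel

theorem pz442 : data.powOK [6,4,1,9,7,3,2,1,10,11,8,5,0,1] 17 pwZ 265200 600 = true := by decide +kernel

theorem pe442 : Big.powEndOK data [8,5,0,1,2,3,4] 9 10 pwE 265200 600 = true := by decide +kernel

theorem rel443 : allRange 265800 600 nodeRel = true := by decide +kernel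

theorem pz443 : data.powOK [6,4,1,9,7,3,2,1,10,11,8,5,0,1] 17 pwZ 265800 600 = true := by decide +kernel

theorem pe443 : Big.powEndOK data [8,5,0,1,2,3,4] 9 10 pwE 265800 600 = true := by decide +kernel

theorem rel444 : allRange 266400 600 nodeRel = true := by decide +kernel

theorem pz444 : data.powOK [6,4,1,9,7,3,2,1,10,11,8,5,0,1] 17 pwZ 266400 600 = true := by decide +kernel

theorem pe444 : Big.powEndOK data [8,5,0,1,2,3,4] 9 10 pwE 266400 600 = true := by decide +kernel

theorem rel445 : allRange 267000 600 nodeRel = true := by decide +kernel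

theorem pz445 : data.powOK [6,4,1,9,7,3,2,1,10,11,8,5,0,1] 17 pwZ 267000 600 = true := by decide +kernel

theorem pe445 : Big.powEndOK data [8,5,0,1,2,3,4] 9 10 pwE 267000 600 = true := by decide +kernel

theorem rel446 : allRange 267600 600 nodeRel = true := by decide +kernel

theorem pz446 : data.powOK [6,4,1,9,7,3,2,1,10,11,8,5,0,1] 17 pwZ 267600 600 = true := by decide +kernel

theorem pe446 : Big.powEndOK data [8,5,0,1,2,3,4] 9 10 pwE 267600 600 = true := by decide +kernel

theorem rel447 : allRange 268200 600 nodeRel = true := by decide +kernel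

theorem pz447 : data.powOK [6,4,1,9,7,3,2,1,10,11,8,5,0,1] 17 pwZ 268200 600 = true := by decide +kernel

theorem pe447 : Big.powEndOK data [8,5,0,1,2,3,4] 9 10 pwE 268200 600 = true := by decide +kernel

end H47.Fi24.Tab
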