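import Cfsg.Agent.H47.Fi24.Tab.RelDef

/-!
Checks of the relators (generated).
-/

set_option autoImplicit false
set_option maxRecDepth 100000
set_option linter.all false
set_option Elab.async false

namespace H47.Fi24.Tab

open H93.Coset

theorem rel448 : allRange 268800 600 nodeRel = true := by decide +kernel

theorem pz448 : data.powOK [6,4,1,9,7,3,2,1,10,11,8,5,0,1] 17 pwZ 268800 600 = true := by decide +kernel

theorem pe448 : Big.powEndOK data [8,5,0,1,2,3,4] 9 10 pwE 268800 600 = true := by decide +kernel

theorem rel449 : allRange 269400 600 nodeRel = true := by decide +kernel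

theorem pz449 : data.powOK [6,4,1,9,7,3,2,1,10,11,8,5,0,1] 17 pwZ 269400 600 = true := by decide +kernel

theorem pe449 : Big.powEndOK data [8,5,0,1,2,3,4] 9 10 pwE 269400 600 = true := by decide +kernel

theorem rel450 : allRange 270000 600 nodeRel = true := by decide +kernel

theorem pz450 : data.powOK [6,4,1,9,7,3,2,1,10,11,8,5,0,1] 17 pwZ 270000 600 = true := by decide +kernel

theorem pe450 : Big.powEndOK data [8,5,0,1,2,3,4] 9 10 pwE 270000 600 = true := by decide +kernel

theorem rel451 : allRange 270600 600 nodeRel = true := by decide +kernel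

theorem pz451 : data.powOK [6,4,1,9,7,3,2,1,10,11,8,5,0,1] 17 pwZ 270600 600 = true := by decide +kernel

theorem pe451 : Big.powEndOK data [8,5,0,1,2,3,4] 9 10 pwE 270600 600 = true := by decide +kernel

theorem rel452 : allRange 271200 600 nodeRel = true := by decide +kernel

theorem pz452 : data.powOK [6,4,1,9,7,3,2,1,10,11,8,5,0,1] 17 pwZ 271200 600 = true := by decide +kernel

theorem pe452 : Big.powEndOK data [8,5,0,1,2,3,4] 9 10 pwE 271200 600 = true := by decide +kernel

theorem rel453 : allRange 271800 600 nodeRel = true := by decide +kernel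

theorem pz453 : data.powOK [6,4,1,9,7,3,2,1,10,11,8,5,0,1] 17 pwZ 271800 600 = true := by decide +kernel

theorem pe453 : Big.powEndOK data [8,5,0,1,2,3,4] 9 10 pwE 271800 600 = true := by decide +kernel

theorem rel454 : allRange 272400 600 nodeRel = true := by decide +kernel

theorem pz454 : data.powOK [6,4,1,9,7,3,2,1,10,11,8,5,0,1] 17 pwZ 272400 600 = true := by decide +kernel

theorem pe454 : Big.powEndOK data [8,5,0,1,2,3,4] 9 10 pwE 272400 600 = true := by decide +kernel

theorem rel455 : allRange 273000 600 nodeRel = true := by decide +kernel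

theorem pz455 : data.powOK [6,4,1,9,7,3,2,1,10,11,8,5,0,1] 17 pwZ 273000 600 = true := by decide +kernel

theorem pe455 : Big.powEndOK data [8,5,0,1,2,3,4] 9 10 pwE 273000 600 = true := by decide +kernel

theorem rel456 : allRange 273600 600 nodeRel = true := by decide +kernel

theorem pz456 : data.powOK [6,4,1,9,7,3,2,1,10,11,8,5,0,1] 17 pwZ 273600 600 = true := by decide +kernel

theorem pe456 : Big.powEndOK data [8,5,0,1,2,3,4] 9 10 pwE 273600 600 = true := by decide +kernel

theorem rel457 : allRange 274200 600 nodeRel = true := by decide +kernel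

theorem pz457 : data.powOK [6,4,1,9,7,3,2,1,10,11,8,5,0,1] 17 pwZ 274200 600 = true := by decide +kernel

theorem pe457 : Big.powEndOK data [8,5,0,1,2,3,4] 9 10 pwE 274200 600 = true := by decide +kernel

theorem rel458 : allRange 274800 600 nodeRel = true := by decide +kernel

theorem pz458 : data.powOK [6,4,1,9,7,3,2,1,10,11,8,5,0,1] 17 pwZ 274800 600 = true := by decide +kernel

theorem pe458 : Big.powEndOK data [8,5,0,1,2,3,4] 9 10 pwE 274800 600 = true := by decide +kernel

theorem rel459 : allRange 275400 600 nodeRel = true := by decide +kernel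

theorem pz459 : data.powOK [6,4,1,9,7,3,2,1,10,11,8,5,0,1] 17 pwZ 275400 600 = true := by decide +kernel

theorem pe459 : Big.powEndOK data [8,5,0,1,2,3,4] 9 10 pwE 275400 600 = true := by decide +kernel

theorem rel460 : allRange 276000 600 nodeRel = true := by decide +kernel

theorem pz460 : data.powOK [6,4,1,9,7,3,2,1,10,11,8,5,0,1] 17 pwZ 276000 600 = true := by decide +kernel

theorem pe460 : Big.powEndOK data [8,5,0,1,2,3,4] 9 10 pwE 276000 600 = true := by decide +kernel

theorem rel461 : allRange 276600 600 nodeRel = true := by decide +kernel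

theorem pz461 : data.powOK [6,4,1,9,7,3,2,1,10,11,8,5,0,1] 17 pwZ 276600 600 = true := by decide +kernel

theorem pe461 : Big.powEndOK data [8,5,0,1,2,3,4] 9 10 pwE 276600 600 = true := by decide +kernel

theorem rel462 : allRange 277200 600 nodeRel = true := by decide +kernel

theorem pz462 : data.powOK [6,4,1,9,7,3,2,1,10,11,8,5,0,1] 17 pwZ 277200 600 = true := by decide +kernel

theorem pe462 : Big.powEndOK data [8,5,0,1,2,3,4] 9 10 pwE 277200 600 = true := by decide +kernel

theorem rel463 : allRange 277800 600 nodeRel = true := by decide +kernel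

theorem pz463 : data.powOK [6,4,1,9,7,3,2,1,10,11,8,5,0,1] 17 pwZ 277800 600 = true := by decide +kernel

theorem pe463 : Big.powEndOK data [8,5,0,1,2,3,4] 9 10 pwE 277800 600 = true := by decide +kernel

end H47.Fi24.Tab
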