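import Cfsg.Agent.H47.Fi24.Tab.RelDef

/-!
Checks of the relators (generated).
-/

set_option autoImplicit false
set_option maxRecDepth 100000
set_option linter.all false
set_option Elab.async false

namespace H47.Fi24.Tab

open H93.Coset

theorem rel464 : allRange 278400 600 nodeRel = true := by decide +kernel

theorem pz464 : data.powOK [6,4,1,9,7,3,2,1,10,11,8,5,0,1] 17 pwZ 278400 600 = true := by decide +kernel

theorem pe464 : Big.powEndOK data [8,5,0,1,2,3,4] 9 10 pwE 278400 600 = true := by decide +kernel

theorem rel465 : allRange 279000 600 nodeRel = true := by decide +kernel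

theorem pz465 : data.powOK [6,4,1,9,7,3,2,1,10,11,8,5,0,1] 17 pwZ 279000 600 = true := by decide +kernel

theorem pe465 : Big.powEndOK data [8,5,0,1,2,3,4] 9 10 pwE 279000 600 = true := by decide +kernel

theorem rel466 : allRange 279600 600 nodeRel = true := by decide +kernel

theorem pz466 : data.powOK [6,4,1,9,7,3,2,1,10,11,8,5,0,1] 17 pwZ 279600 600 = true := by decide +kernel

theorem pe466 : Big.powEndOK data [8,5,0,1,2,3,4] 9 10 pwE 279600 600 = true := by decide +kernel

theorem rel467 : allRange 280200 600 nodeRel = true := by decide +kernel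

theorem pz467 : data.powOK [6,4,1,9,7,3,2,1,10,11,8,5,0,1] 17 pwZ 280200 600 = true := by decide +kernel

theorem pe467 : Big.powEndOK data [8,5,0,1,2,3,4] 9 10 pwE 280200 600 = true := by decide +kernel

theorem rel468 : allRange 280800 600 nodeRel = true := by decide +kernel

theorem pz468 : data.powOK [6,4,1,9,7,3,2,1,10,11,8,5,0,1] 17 pwZ 280800 600 = true := by decide +kernel

theorem pe468 : Big.powEndOK data [8,5,0,1,2,3,4] 9 10 pwE 280800 600 = true := by decide +kernel

theorem rel469 : allRange 281400 600 nodeRel = true := by decide +kernel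

theorem pz469 : data.powOK [6,4,1,9,7,3,2,1,10,11,8,5,0,1] 17 pwZ 281400 600 = true := by decide +kernel

theorem pe469 : Big.powEndOK data [8,5,0,1,2,3,4] 9 10 pwE 281400 600 = true := by decide +kernel

theorem rel470 : allRange 282000 600 nodeRel = true := by decide +kernel

theorem pz470 : data.powOK [6,4,1,9,7,3,2,1,10,11,8,5,0,1] 17 pwZ 282000 600 = true := by decide +kernel

theorem pe470 : Big.powEndOK data [8,5,0,1,2,3,4] 9 10 pwE 282000 600 = true := by decide +kernel

theorem rel471 : allRange 282600 600 nodeRel = true := by decide +kernel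

theorem pz471 : data.powOK [6,4,1,9,7,3,2,1,10,11,8,5,0,1] 17 pwZ 282600 600 = true := by decide +kernel

theorem pe471 : Big.powEndOK data [8,5,0,1,2,3,4] 9 10 pwE 282600 600 = true := by decide +kernel

theorem rel472 : allRange 283200 600 nodeRel = true := by decide +kernel

theorem pz472 : data.powOK [6,4,1,9,7,3,2,1,10,11,8,5,0,1] 17 pwZ 283200 600 = true := by decide +kernel

theorem pe472 : Big.powEndOK data [8,5,0,1,2,3,4] 9 10 pwE 283200 600 = true := by decide +kernel

theorem rel473 : allRange 283800 600 nodeRel = true := by decide +kernel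

theorem pz473 : data.powOK [6,4,1,9,7,3,2,1,10,11,8,5,0,1] 17 pwZ 283800 600 = true := by decide +kernel

theorem pe473 : Big.powEndOK data [8,5,0,1,2,3,4] 9 10 pwE 283800 600 = true := by decide +kernel

theorem rel474 : allRange 284400 600 nodeRel = true := by decide +kernel

theorem pz474 : data.powOK [6,4,1,9,7,3,2,1,10,11,8,5,0,1] 17 pwZ 284400 600 = true := by decide +kernel

theorem pe474 : Big.powEndOK data [8,5,0,1,2,3,4] 9 10 pwE 284400 600 = true := by decide +kernel

theorem rel475 : allRange 285000 600 nodeRel = true := by decide +kernel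

theorem pz475 : data.powOK [6,4,1,9,7,3,2,1,10,11,8,5,0,1] 17 pwZ 285000 600 = true := by decide +kernel

theorem pe475 : Big.powEndOK data [8,5,0,1,2,3,4] 9 10 pwE 285000 600 = true := by decide +kernel

theorem rel476 : allRange 285600 600 nodeRel = true := by decide +kernel

theorem pz476 : data.powOK [6,4,1,9,7,3,2,1,10,11,8,5,0,1] 17 pwZ 285600 600 = true := by decide +kernel

theorem pe476 : Big.powEndOK data [8,5,0,1,2,3,4] 9 10 pwE 285600 600 = true := by decide +kernel

theorem rel477 : allRange 286200 600 nodeRel = true := by decide +kernel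

theorem pz477 : data.powOK [6,4,1,9,7,3,2,1,10,11,8,5,0,1] 17 pwZ 286200 600 = true := by decide +kernel

theorem pe477 : Big.powEndOK data [8,5,0,1,2,3,4] 9 10 pwE 286200 600 = true := by decide +kernel

theorem rel478 : allRange 286800 600 nodeRel = true := by decide +kernel

theorem pz478 : data.powOK [6,4,1,9,7,3,2,1,10,11,8,5,0,1] 17 pwZ 286800 600 = true := by decide +kernel

theorem pe478 : Big.powEndOK data [8,5,0,1,2,3,4] 9 10 pwE 286800 600 = true := by decide +kernel

theorem rel479 : allRange 287400 600 nodeRel = true := by decide +kernel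

theorem pz479 : data.powOK [6,4,1,9,7,3,2,1,10,11,8,5,0,1] 17 pwZ 287400 600 = true := by decide +kernel

theorem pe479 : Big.powEndOK data [8,5,0,1,2,3,4] 9 10 pwE 287400 600 = true := by decide +kernel

end H47.Fi24.Tab
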