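import Cfsg.Agent.H47.Fi24.Tab.RelDef

/-!
Checks of the relators (generated).
-/

set_option autoImplicit false
set_option maxRecDepth 100000
set_option linter.all false
set_option Elab.async false

namespace H47.Fi24.Tab

open H93.Coset

theorem rel48 : allRange 28800 600 nodeRel = true := by decide +kernel

theorem pz48 : data.powOK [6,4,1,9,7,3,2,1,10,11,8,5,0,1] 17 pwZ 28800 600 = true := by decide +kernel

theorem pe48 : Big.powEndOK data [8,5,0,1,2,3,4] 9 10 pwE 28800 600 = true := by decide +kernel

theorem rel49 : allRange 29400 600 nodeRel = true := by decide +kernel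

theorem pz49 : data.powOK [6,4,1,9,7,3,2,1,10,11,8,5,0,1] 17 pwZ 29400 600 = true := by decide +kernel

theorem pe49 : Big.powEndOK data [8,5,0,1,2,3,4] 9 10 pwE 29400 600 = true := by decide +kernel

theorem rel50 : allRange 30000 600 nodeRel = true := by decide +kernel

theorem pz50 : data.powOK [6,4,1,9,7,3,2,1,10,11,8,5,0,1] 17 pwZ 30000 600 = true := by decide +kernel

theorem pe50 : Big.powEndOK data [8,5,0,1,2,3,4] 9 10 pwE 30000 600 = true := by decide +kernel

theorem rel51 : allRange 30600 600 nodeRel = true := by decide +kernel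

theorem pz51 : data.powOK [6,4,1,9,7,3,2,1,10,11,8,5,0,1] 17 pwZ 30600 600 = true := by decide +kernel

theorem pe51 : Big.powEndOK data [8,5,0,1,2,3,4] 9 10 pwE 30600 600 = true := by decide +kernel

theorem rel52 : allRange 31200 600 nodeRel = true := by decide +kernel

theorem pz52 : data.powOK [6,4,1,9,7,3,2,1,10,11,8,5,0,1] 17 pwZ 31200 600 = true := by decide +kernel

theorem pe52 : Big.powEndOK data [8,5,0,1,2,3,4] 9 10 pwE 31200 600 = true := by decide +kernel

theorem rel53 : allRange 31800 600 nodeRel = true := by decide +kernel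

theorem pz53 : data.powOK [6,4,1,9,7,3,2,1,10,11,8,5,0,1] 17 pwZ 31800 600 = true := by decide +kernel

theorem pe53 : Big.powEndOK data [8,5,0,1,2,3,4] 9 10 pwE 31800 600 = true := by decide +kernel

theorem rel54 : allRange 32400 600 nodeRel = true := by decide +kernel

theorem pz54 : data.powOK [6,4,1,9,7,3,2,1,10,11,8,5,0,1] 17 pwZ 32400 600 = true := by decide +kernel

theorem pe54 : Big.powEndOK data [8,5,0,1,2,3,4] 9 10 pwE 32400 600 = true := by decide +kernel

theorem rel55 : allRange 33000 600 nodeRel = true := by decide +kernel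

theorem pz55 : data.powOK [6,4,1,9,7,3,2,1,10,11,8,5,0,1] 17 pwZ 33000 600 = true := by decide +kernel

theorem pe55 : Big.powEndOK data [8,5,0,1,2,3,4] 9 10 pwE 33000 600 = true := by decide +kernel

theorem rel56 : allRange 33600 600 nodeRel = true := by decide +kernel

theorem pz56 : data.powOK [6,4,1,9,7,3,2,1,10,11,8,5,0,1] 17 pwZ 33600 600 = true := by decide +kernel

theorem pe56 : Big.powEndOK data [8,5,0,1,2,3,4] 9 10 pwE 33600 600 = true := by decide +kernel

theorem rel57 : allRange 34200 600 nodeRel = true := by decide +kernel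

theorem pz57 : data.powOK [6,4,1,9,7,3,2,1,10,11,8,5,0,1] 17 pwZ 34200 600 = true := by decide +kernel

theorem pe57 : Big.powEndOK data [8,5,0,1,2,3,4] 9 10 pwE 34200 600 = true := by decide +kernel

theorem rel58 : allRange 34800 600 nodeRel = true := by decide +kernel

theorem pz58 : data.powOK [6,4,1,9,7,3,2,1,10,11,8,5,0,1] 17 pwZ 34800 600 = true := by decide +kernel

theorem pe58 : Big.powEndOK data [8,5,0,1,2,3,4] 9 10 pwE 34800 600 = true := by decide +kernel

theorem rel59 : allRange 35400 600 nodeRel = true := by decide +kernel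

theorem pz59 : data.powOK [6,4,1,9,7,3,2,1,10,11,8,5,0,1] 17 pwZ 35400 600 = true := by decide +kernel

theorem pe59 : Big.powEndOK data [8,5,0,1,2,3,4] 9 10 pwE 35400 600 = true := by decide +kernel

theorem rel60 : allRange 36000 600 nodeRel = true := by decide +kernel

theorem pz60 : data.powOK [6,4,1,9,7,3,2,1,10,11,8,5,0,1] 17 pwZ 36000 600 = true := by decide +kernel

theorem pe60 : Big.powEndOK data [8,5,0,1,2,3,4] 9 10 pwE 36000 600 = true := by decide +kernel

theorem rel61 : allRange 36600 600 nodeRel = true := by decide +kernel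

theorem pz61 : data.powOK [6,4,1,9,7,3,2,1,10,11,8,5,0,1] 17 pwZ 36600 600 = true := by decide +kernel

theorem pe61 : Big.powEndOK data [8,5,0,1,2,3,4] 9 10 pwE 36600 600 = true := by decide +kernel

theorem rel62 : allRange 37200 600 nodeRel = true := by decide +kernel

theorem pz62 : data.powOK [6,4,1,9,7,3,2,1,10,11,8,5,0,1] 17 pwZ 37200 600 = true := by decide +kernel

theorem pe62 : Big.powEndOK data [8,5,0,1,2,3,4] 9 10 pwE 37200 600 = true := by decide +kernel

theorem rel63 : allRange 37800 600 nodeRel = true := by decide +kernel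

theorem pz63 : data.powOK [6,4,1,9,7,3,2,1,10,11,8,5,0,1] 17 pwZ 37800 600 = true := by decide +kernel

theorem pe63 : Big.powEndOK data [8,5,0,1,2,3,4] 9 10 pwE 37800 600 = true := by decide +kernel

end H47.Fi24.Tab
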