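import Cfsg.Agent.H47.Fi24.Tab.RelDef

/-!
Checks of the relators (generated).
-/

set_option autoImplicit false
set_option maxRecDepth 100000
set_option linter.all false
set_option Elab.async false

namespace H47.Fi24.Tab

open H93.Coset

theorem rel496 : allRange 297600 600 nodeRel = true := by decide +kernel

theorem pz496 : data.powOK [6,4,1,9,7,3,2,1,10,11,8,5,0,1] 17 pwZ 297600 600 = true := by decide +kernel

theorem pe496 : Big.powEndOK data [8,5,0,1,2,3,4] 9 10 pwE 297600 600 = true := by decide +kernel

theorem rel497 : allRange 298200 600 nodeRel = true := by decide +kernel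

theorem pz497 : data.powOK [6,4,1,9,7,3,2,1,10,11,8,5,0,1] 17 pwZ 298200 600 = true := by decide +kernel

theorem pe497 : Big.powEndOK data [8,5,0,1,2,3,4] 9 10 pwE 298200 600 = true := by decide +kernel

theorem rel498 : allRange 298800 600 nodeRel = true := by decide +kernel

theorem pz498 : data.powOK [6,4,1,9,7,3,2,1,10,11,8,5,0,1] 17 pwZ 298800 600 = true := by decide +kernel

theorem pe498 : Big.powEndOK data [8,5,0,1,2,3,4] 9 10 pwE 298800 600 = true := by decide +kernel

theorem rel499 : allRange 299400 600 nodeRel = true := by decide +kernel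

theorem pz499 : data.powOK [6,4,1,9,7,3,2,1,10,11,8,5,0,1] 17 pwZ 299400 600 = true := by decide +kernel

theorem pe499 : Big.powEndOK data [8,5,0,1,2,3,4] 9 10 pwE 299400 600 = true := by decide +kernel

theorem rel500 : allRange 300000 600 nodeRel = true := by decide +kernel

theorem pz500 : data.powOK [6,4,1,9,7,3,2,1,10,11,8,5,0,1] 17 pwZ 300000 600 = true := by decide +kernel

theorem pe500 : Big.powEndOK data [8,5,0,1,2,3,4] 9 10 pwE 300000 600 = true := by decide +kernel

theorem rel501 : allRange 300600 600 nodeRel = true := by decide +kernel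

theorem pz501 : data.powOK [6,4,1,9,7,3,2,1,10,11,8,5,0,1] 17 pwZ 300600 600 = true := by decide +kernel

theorem pe501 : Big.powEndOK data [8,5,0,1,2,3,4] 9 10 pwE 300600 600 = true := by decide +kernel

theorem rel502 : allRange 301200 600 nodeRel = true := by decide +kernel

theorem pz502 : data.powOK [6,4,1,9,7,3,2,1,10,11,8,5,0,1] 17 pwZ 301200 600 = true := by decide +kernel

theorem pe502 : Big.powEndOK data [8,5,0,1,2,3,4] 9 10 pwE 301200 600 = true := by decide +kernel

theorem rel503 : allRange 301800 600 nodeRel = true := by decide +kernel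

theorem pz503 : data.powOK [6,4,1,9,7,3,2,1,10,11,8,5,0,1] 17 pwZ 301800 600 = true := by decide +kernel

theorem pe503 : Big.powEndOK data [8,5,0,1,2,3,4] 9 10 pwE 301800 600 = true := by decide +kernel

theorem rel504 : allRange 302400 600 nodeRel = true := by decide +kernel

theorem pz504 : data.powOK [6,4,1,9,7,3,2,1,10,11,8,5,0,1] 17 pwZ 302400 600 = true := by decide +kernel

theorem pe504 : Big.powEndOK data [8,5,0,1,2,3,4] 9 10 pwE 302400 600 = true := by decide +kernel

theorem rel505 : allRange 303000 600 nodeRel = true := by decide +kernel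

theorem pz505 : data.powOK [6,4,1,9,7,3,2,1,10,11,8,5,0,1] 17 pwZ 303000 600 = true := by decide +kernel

theorem pe505 : Big.powEndOK data [8,5,0,1,2,3,4] 9 10 pwE 303000 600 = true := by decide +kernel

theorem rel506 : allRange 303600 600 nodeRel = true := by decide +kernel

theorem pz506 : data.powOK [6,4,1,9,7,3,2,1,10,11,8,5,0,1] 17 pwZ 303600 600 = true := by decide +kernel

theorem pe506 : Big.powEndOK data [8,5,0,1,2,3,4] 9 10 pwE 303600 600 = true := by decide +kernel

theorem rel507 : allRange 304200 600 nodeRel = true := by decide +kernel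

theorem pz507 : data.powOK [6,4,1,9,7,3,2,1,10,11,8,5,0,1] 17 pwZ 304200 600 = true := by decide +kernel

theorem pe507 : Big.powEndOK data [8,5,0,1,2,3,4] 9 10 pwE 304200 600 = true := by decide +kernel

theorem rel508 : allRange 304800 600 nodeRel = true := by decide +kernel

theorem pz508 : data.powOK [6,4,1,9,7,3,2,1,10,11,8,5,0,1] 17 pwZ 304800 600 = true := by decide +kernel

theorem pe508 : Big.powEndOK data [8,5,0,1,2,3,4] 9 10 pwE 304800 600 = true := by decide +kernel

theorem rel509 : allRange 305400 600 nodeRel = true := by decide +kernel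

theorem pz509 : data.powOK [6,4,1,9,7,3,2,1,10,11,8,5,0,1] 17 pwZ 305400 600 = true := by decide +kernel

theorem pe509 : Big.powEndOK data [8,5,0,1,2,3,4] 9 10 pwE 305400 600 = true := by decide +kernel

theorem rel510 : allRange 306000 600 nodeRel = true := by decide +kernel

theorem pz510 : data.powOK [6,4,1,9,7,3,2,1,10,11,8,5,0,1] 17 pwZ 306000 600 = true := by decide +kernel

theorem pe510 : Big.powEndOK data [8,5,0,1,2,3,4] 9 10 pwE 306000 600 = true := by decide +kernel

theorem rel511 : allRange 306600 336 nodeRel = true := by decide +kernel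

theorem pz511 : data.powOK [6,4,1,9,7,3,2,1,10,11,8,5,0,1] 17 pwZ 306600 336 = true := by decide +kernel

theorem pe511 : Big.powEndOK data [8,5,0,1,2,3,4] 9 10 pwE 306600 336 = true := by decide +kernel

end H47.Fi24.Tab
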