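import Cfsg.Agent.H47.Fi24.Tab.RelDef

/-!
Checks of the relators (generated).
-/

set_option autoImplicit false
set_option maxRecDepth 100000
set_option linter.all false
set_option Elab.async false

namespace H47.Fi24.Tab

open H93.Coset

theorem rel64 : allRange 38400 600 nodeRel = true := by decide +kernel

theorem pz64 : data.powOK [6,4,1,9,7,3,2,1,10,11,8,5,0,1] 17 pwZ 38400 600 = true := by decide +kernel

theorem pe64 : Big.powEndOK data [8,5,0,1,2,3,4] 9 10 pwE 38400 600 = true := by decide +kernel

theorem rel65 : allRange 39000 600 nodeRel = true := by decide +kernel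

theorem pz65 : data.powOK [6,4,1,9,7,3,2,1,10,11,8,5,0,1] 17 pwZ 39000 600 = true := by decide +kernel

theorem pe65 : Big.powEndOK data [8,5,0,1,2,3,4] 9 10 pwE 39000 600 = true := by decide +kernel

theorem rel66 : allRange 39600 600 nodeRel = true := by decide +kernel

theorem pz66 : data.powOK [6,4,1,9,7,3,2,1,10,11,8,5,0,1] 17 pwZ 39600 600 = true := by decide +kernel

theorem pe66 : Big.powEndOK data [8,5,0,1,2,3,4] 9 10 pwE 39600 600 = true := by decide +kernel

theorem rel67 : allRange 40200 600 nodeRel = true := by decide +kernel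

theorem pz67 : data.powOK [6,4,1,9,7,3,2,1,10,11,8,5,0,1] 17 pwZ 40200 600 = true := by decide +kernel

theorem pe67 : Big.powEndOK data [8,5,0,1,2,3,4] 9 10 pwE 40200 600 = true := by decide +kernel

theorem rel68 : allRange 40800 600 nodeRel = true := by decide +kernel

theorem pz68 : data.powOK [6,4,1,9,7,3,2,1,10,11,8,5,0,1] 17 pwZ 40800 600 = true := by decide +kernel

theorem pe68 : Big.powEndOK data [8,5,0,1,2,3,4] 9 10 pwE 40800 600 = true := by decide +kernel

theorem rel69 : allRange 41400 600 nodeRel = true := by decide +kernel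

theorem pz69 : data.powOK [6,4,1,9,7,3,2,1,10,11,8,5,0,1] 17 pwZ 41400 600 = true := by decide +kernel

theorem pe69 : Big.powEndOK data [8,5,0,1,2,3,4] 9 10 pwE 41400 600 = true := by decide +kernel

theorem rel70 : allRange 42000 600 nodeRel = true := by decide +kernel

theorem pz70 : data.powOK [6,4,1,9,7,3,2,1,10,11,8,5,0,1] 17 pwZ 42000 600 = true := by decide +kernel

theorem pe70 : Big.powEndOK data [8,5,0,1,2,3,4] 9 10 pwE 42000 600 = true := by decide +kernel

theorem rel71 : allRange 42600 600 nodeRel = true := by decide +kernel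

theorem pz71 : data.powOK [6,4,1,9,7,3,2,1,10,11,8,5,0,1] 17 pwZ 42600 600 = true := by decide +kernel

theorem pe71 : Big.powEndOK data [8,5,0,1,2,3,4] 9 10 pwE 42600 600 = true := by decide +kernel

theorem rel72 : allRange 43200 600 nodeRel = true := by decide +kernel

theorem pz72 : data.powOK [6,4,1,9,7,3,2,1,10,11,8,5,0,1] 17 pwZ 43200 600 = true := by decide +kernel

theorem pe72 : Big.powEndOK data [8,5,0,1,2,3,4] 9 10 pwE 43200 600 = true := by decide +kernel

theorem rel73 : allRange 43800 600 nodeRel = true := by decide +kernel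

theorem pz73 : data.powOK [6,4,1,9,7,3,2,1,10,11,8,5,0,1] 17 pwZ 43800 600 = true := by decide +kernel

theorem pe73 : Big.powEndOK data [8,5,0,1,2,3,4] 9 10 pwE 43800 600 = true := by decide +kernel

theorem rel74 : allRange 44400 600 nodeRel = true := by decide +kernel

theorem pz74 : data.powOK [6,4,1,9,7,3,2,1,10,11,8,5,0,1] 17 pwZ 44400 600 = true := by decide +kernel

theorem pe74 : Big.powEndOK data [8,5,0,1,2,3,4] 9 10 pwE 44400 600 = true := by decide +kernel

theorem rel75 : allRange 45000 600 nodeRel = true := by decide +kernel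

theorem pz75 : data.powOK [6,4,1,9,7,3,2,1,10,11,8,5,0,1] 17 pwZ 45000 600 = true := by decide +kernel

theorem pe75 : Big.powEndOK data [8,5,0,1,2,3,4] 9 10 pwE 45000 600 = true := by decide +kernel

theorem rel76 : allRange 45600 600 nodeRel = true := by decide +kernel

theorem pz76 : data.powOK [6,4,1,9,7,3,2,1,10,11,8,5,0,1] 17 pwZ 45600 600 = true := by decide +kernel

theorem pe76 : Big.powEndOK data [8,5,0,1,2,3,4] 9 10 pwE 45600 600 = true := by decide +kernel

theorem rel77 : allRange 46200 600 nodeRel = true := by decide +kernel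

theorem pz77 : data.powOK [6,4,1,9,7,3,2,1,10,11,8,5,0,1] 17 pwZ 46200 600 = true := by decide +kernel

theorem pe77 : Big.powEndOK data [8,5,0,1,2,3,4] 9 10 pwE 46200 600 = true := by decide +kernel

theorem rel78 : allRange 46800 600 nodeRel = true := by decide +kernel

theorem pz78 : data.powOK [6,4,1,9,7,3,2,1,10,11,8,5,0,1] 17 pwZ 46800 600 = true := by decide +kernel

theorem pe78 : Big.powEndOK data [8,5,0,1,2,3,4] 9 10 pwE 46800 600 = true := by decide +kernel

theorem rel79 : allRange 47400 600 nodeRel = true := by decide +kernel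

theorem pz79 : data.powOK [6,4,1,9,7,3,2,1,10,11,8,5,0,1] 17 pwZ 47400 600 = true := by decide +kernel

theorem pe79 : Big.powEndOK data [8,5,0,1,2,3,4] 9 10 pwE 47400 600 = true := by decide +kernel

end H47.Fi24.Tab
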