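import Cfsg.Agent.H47.Fi24.Tab.RelDef

/-!
Checks of the relators (generated).
-/

set_option autoImplicit false
set_option maxRecDepth 100000
set_option linter.all false
set_option Elab.async false

namespace H47.Fi24.Tab

open H93.Coset

theorem rel80 : allRange 48000 600 nodeRel = true := by decide +kernel

theorem pz80 : data.powOK [6,4,1,9,7,3,2,1,10,11,8,5,0,1] 17 pwZ 48000 600 = true := by decide +kernel

theorem pe80 : Big.powEndOK data [8,5,0,1,2,3,4] 9 10 pwE 48000 600 = true := by decide +kernel

theorem rel81 : allRange 48600 600 nodeRel = true := by decide +kernel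

theorem pz81 : data.powOK [6,4,1,9,7,3,2,1,10,11,8,5,0,1] 17 pwZ 48600 600 = true := by decide +kernel

theorem pe81 : Big.powEndOK data [8,5,0,1,2,3,4] 9 10 pwE 48600 600 = true := by decide +kernel

theorem rel82 : allRange 49200 600 nodeRel = true := by decide +kernel

theorem pz82 : data.powOK [6,4,1,9,7,3,2,1,10,11,8,5,0,1] 17 pwZ 49200 600 = true := by decide +kernel

theorem pe82 : Big.powEndOK data [8,5,0,1,2,3,4] 9 10 pwE 49200 600 = true := by decide +kernel

theorem rel83 : allRange 49800 600 nodeRel = true := by decide +kernel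

theorem pz83 : data.powOK [6,4,1,9,7,3,2,1,10,11,8,5,0,1] 17 pwZ 49800 600 = true := by decide +kernel

theorem pe83 : Big.powEndOK data [8,5,0,1,2,3,4] 9 10 pwE 49800 600 = true := by decide +kernel

theorem rel84 : allRange 50400 600 nodeRel = true := by decide +kernel

theorem pz84 : data.powOK [6,4,1,9,7,3,2,1,10,11,8,5,0,1] 17 pwZ 50400 600 = true := by decide +kernel

theorem pe84 : Big.powEndOK data [8,5,0,1,2,3,4] 9 10 pwE 50400 600 = true := by decide +kernel

theorem rel85 : allRange 51000 600 nodeRel = true := by decide +kernel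

theorem pz85 : data.powOK [6,4,1,9,7,3,2,1,10,11,8,5,0,1] 17 pwZ 51000 600 = true := by decide +kernel

theorem pe85 : Big.powEndOK data [8,5,0,1,2,3,4] 9 10 pwE 51000 600 = true := by decide +kernel

theorem rel86 : allRange 51600 600 nodeRel = true := by decide +kernel

theorem pz86 : data.powOK [6,4,1,9,7,3,2,1,10,11,8,5,0,1] 17 pwZ 51600 600 = true := by decide +kernel

theorem pe86 : Big.powEndOK data [8,5,0,1,2,3,4] 9 10 pwE 51600 600 = true := by decide +kernel

theorem rel87 : allRange 52200 600 nodeRel = true := by decide +kernel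

theorem pz87 : data.powOK [6,4,1,9,7,3,2,1,10,11,8,5,0,1] 17 pwZ 52200 600 = true := by decide +kernel

theorem pe87 : Big.powEndOK data [8,5,0,1,2,3,4] 9 10 pwE 52200 600 = true := by decide +kernel

theorem rel88 : allRange 52800 600 nodeRel = true := by decide +kernel

theorem pz88 : data.powOK [6,4,1,9,7,3,2,1,10,11,8,5,0,1] 17 pwZ 52800 600 = true := by decide +kernel

theorem pe88 : Big.powEndOK data [8,5,0,1,2,3,4] 9 10 pwE 52800 600 = true := by decide +kernel

theorem rel89 : allRange 53400 600 nodeRel = true := by decide +kernel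

theorem pz89 : data.powOK [6,4,1,9,7,3,2,1,10,11,8,5,0,1] 17 pwZ 53400 600 = true := by decide +kernel

theorem pe89 : Big.powEndOK data [8,5,0,1,2,3,4] 9 10 pwE 53400 600 = true := by decide +kernel

theorem rel90 : allRange 54000 600 nodeRel = true := by decide +kernel

theorem pz90 : data.powOK [6,4,1,9,7,3,2,1,10,11,8,5,0,1] 17 pwZ 54000 600 = true := by decide +kernel

theorem pe90 : Big.powEndOK data [8,5,0,1,2,3,4] 9 10 pwE 54000 600 = true := by decide +kernel

theorem rel91 : allRange 54600 600 nodeRel = true := by decide +kernel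

theorem pz91 : data.powOK [6,4,1,9,7,3,2,1,10,11,8,5,0,1] 17 pwZ 54600 600 = true := by decide +kernel

theorem pe91 : Big.powEndOK data [8,5,0,1,2,3,4] 9 10 pwE 54600 600 = true := by decide +kernel

theorem rel92 : allRange 55200 600 nodeRel = true := by decide +kernel

theorem pz92 : data.powOK [6,4,1,9,7,3,2,1,10,11,8,5,0,1] 17 pwZ 55200 600 = true := by decide +kernel

theorem pe92 : Big.powEndOK data [8,5,0,1,2,3,4] 9 10 pwE 55200 600 = true := by decide +kernel

theorem rel93 : allRange 55800 600 nodeRel = true := by decide +kernel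

theorem pz93 : data.powOK [6,4,1,9,7,3,2,1,10,11,8,5,0,1] 17 pwZ 55800 600 = true := by decide +kernel

theorem pe93 : Big.powEndOK data [8,5,0,1,2,3,4] 9 10 pwE 55800 600 = true := by decide +kernel

theorem rel94 : allRange 56400 600 nodeRel = true := by decide +kernel

theorem pz94 : data.powOK [6,4,1,9,7,3,2,1,10,11,8,5,0,1] 17 pwZ 56400 600 = true := by decide +kernel

theorem pe94 : Big.powEndOK data [8,5,0,1,2,3,4] 9 10 pwE 56400 600 = true := by decide +kernel

theorem rel95 : allRange 57000 600 nodeRel = true := by decide +kernel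

theorem pz95 : data.powOK [6,4,1,9,7,3,2,1,10,11,8,5,0,1] 17 pwZ 57000 600 = true := by decide +kernel

theorem pe95 : Big.powEndOK data [8,5,0,1,2,3,4] 9 10 pwE 57000 600 = true := by decide +kernel

end H47.Fi24.Tab
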