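import Cfsg.Agent.H47.Fi24.Tab.RelDef

/-!
Checks of the relators (generated).
-/

set_option autoImplicit false
set_option maxRecDepth 100000
set_option linter.all false
set_option Elab.async false

namespace H47.Fi24.Tab

open H93.Coset

theorem rel96 : allRange 57600 600 nodeRel = true := by decide +kernel

theorem pz96 : data.powOK [6,4,1,9,7,3,2,1,10,11,8,5,0,1] 17 pwZ 57600 600 = true := by decide +kernel

theorem pe96 : Big.powEndOK data [8,5,0,1,2,3,4] 9 10 pwE 57600 600 = true := by decide +kernel

theorem rel97 : allRange 58200 600 nodeRel = true := by decide +kernel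

theorem pz97 : data.powOK [6,4,1,9,7,3,2,1,10,11,8,5,0,1] 17 pwZ 58200 600 = true := by decide +kernel

theorem pe97 : Big.powEndOK data [8,5,0,1,2,3,4] 9 10 pwE 58200 600 = true := by decide +kernel

theorem rel98 : allRange 58800 600 nodeRel = true := by decide +kernel

theorem pz98 : data.powOK [6,4,1,9,7,3,2,1,10,11,8,5,0,1] 17 pwZ 58800 600 = true := by decide +kernel

theorem pe98 : Big.powEndOK data [8,5,0,1,2,3,4] 9 10 pwE 58800 600 = true := by decide +kernel

theorem rel99 : allRange 59400 600 nodeRel = true := by decide +kernel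

theorem pz99 : data.powOK [6,4,1,9,7,3,2,1,10,11,8,5,0,1] 17 pwZ 59400 600 = true := by decide +kernel

theorem pe99 : Big.powEndOK data [8,5,0,1,2,3,4] 9 10 pwE 59400 600 = true := by decide +kernel

theorem rel100 : allRange 60000 600 nodeRel = true := by decide +kernel

theorem pz100 : data.powOK [6,4,1,9,7,3,2,1,10,11,8,5,0,1] 17 pwZ 60000 600 = true := by decide +kernel

theorem pe100 : Big.powEndOK data [8,5,0,1,2,3,4] 9 10 pwE 60000 600 = true := by decide +kernel

theorem rel101 : allRange 60600 600 nodeRel = true := by decide +kernel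

theorem pz101 : data.powOK [6,4,1,9,7,3,2,1,10,11,8,5,0,1] 17 pwZ 60600 600 = true := by decide +kernel

theorem pe101 : Big.powEndOK data [8,5,0,1,2,3,4] 9 10 pwE 60600 600 = true := by decide +kernel

theorem rel102 : allRange 61200 600 nodeRel = true := by decide +kernel

theorem pz102 : data.powOK [6,4,1,9,7,3,2,1,10,11,8,5,0,1] 17 pwZ 61200 600 = true := by decide +kernel

theorem pe102 : Big.powEndOK data [8,5,0,1,2,3,4] 9 10 pwE 61200 600 = true := by decide +kernel

theorem rel103 : allRange 61800 600 nodeRel = true := by decide +kernel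

theorem pz103 : data.powOK [6,4,1,9,7,3,2,1,10,11,8,5,0,1] 17 pwZ 61800 600 = true := by decide +kernel

theorem pe103 : Big.powEndOK data [8,5,0,1,2,3,4] 9 10 pwE 61800 600 = true := by decide +kernel

theorem rel104 : allRange 62400 600 nodeRel = true := by decide +kernel

theorem pz104 : data.powOK [6,4,1,9,7,3,2,1,10,11,8,5,0,1] 17 pwZ 62400 600 = true := by decide +kernel

theorem pe104 : Big.powEndOK data [8,5,0,1,2,3,4] 9 10 pwE 62400 600 = true := by decide +kernel

theorem rel105 : allRange 63000 600 nodeRel = true := by decide +kernel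

theorem pz105 : data.powOK [6,4,1,9,7,3,2,1,10,11,8,5,0,1] 17 pwZ 63000 600 = true := by decide +kernel

theorem pe105 : Big.powEndOK data [8,5,0,1,2,3,4] 9 10 pwE 63000 600 = true := by decide +kernel

theorem rel106 : allRange 63600 600 nodeRel = true := by decide +kernel

theorem pz106 : data.powOK [6,4,1,9,7,3,2,1,10,11,8,5,0,1] 17 pwZ 63600 600 = true := by decide +kernel

theorem pe106 : Big.powEndOK data [8,5,0,1,2,3,4] 9 10 pwE 63600 600 = true := by decide +kernel

theorem rel107 : allRange 64200 600 nodeRel = true := by decide +kernel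

theorem pz107 : data.powOK [6,4,1,9,7,3,2,1,10,11,8,5,0,1] 17 pwZ 64200 600 = true := by decide +kernel

theorem pe107 : Big.powEndOK data [8,5,0,1,2,3,4] 9 10 pwE 64200 600 = true := by decide +kernel

theorem rel108 : allRange 64800 600 nodeRel = true := by decide +kernel

theorem pz108 : data.powOK [6,4,1,9,7,3,2,1,10,11,8,5,0,1] 17 pwZ 64800 600 = true := by decide +kernel

theorem pe108 : Big.powEndOK data [8,5,0,1,2,3,4] 9 10 pwE 64800 600 = true := by decide +kernel

theorem rel109 : allRange 65400 600 nodeRel = true := by decide +kernel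

theorem pz109 : data.powOK [6,4,1,9,7,3,2,1,10,11,8,5,0,1] 17 pwZ 65400 600 = true := by decide +kernel

theorem pe109 : Big.powEndOK data [8,5,0,1,2,3,4] 9 10 pwE 65400 600 = true := by decide +kernel

theorem rel110 : allRange 66000 600 nodeRel = true := by decide +kernel

theorem pz110 : data.powOK [6,4,1,9,7,3,2,1,10,11,8,5,0,1] 17 pwZ 66000 600 = true := by decide +kernel

theorem pe110 : Big.powEndOK data [8,5,0,1,2,3,4] 9 10 pwE 66000 600 = true := by decide +kernel

theorem rel111 : allRange 66600 600 nodeRel = true := by decide +kernel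

theorem pz111 : data.powOK [6,4,1,9,7,3,2,1,10,11,8,5,0,1] 17 pwZ 66600 600 = true := by decide +kernel

theorem pe111 : Big.powEndOK data [8,5,0,1,2,3,4] 9 10 pwE 66600 600 = true := by decide +kernel

end H47.Fi24.Tab
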