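import Cfsg.Agent.H47.Fi24.Tab.RelDef

/-!
Checks of the relators (generated).
-/

set_option autoImplicit false
set_option maxRecDepth 100000
set_option linter.all false
set_option Elab.async false

namespace H47.Fi24.Tab

open H93.Coset

theorem rel112 : allRange 67200 600 nodeRel = true := by decide +kernel

theorem pz112 : data.powOK [6,4,1,9,7,3,2,1,10,11,8,5,0,1] 17 pwZ 67200 600 = true := by decide +kernel

theorem pe112 : Big.powEndOK data [8,5,0,1,2,3,4] 9 10 pwE 67200 600 = true := by decide +kernel

theorem rel113 : allRange 67800 600 nodeRel = true := by decide +kernel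

theorem pz113 : data.powOK [6,4,1,9,7,3,2,1,10,11,8,5,0,1] 17 pwZ 67800 600 = true := by decide +kernel

theorem pe113 : Big.powEndOK data [8,5,0,1,2,3,4] 9 10 pwE 67800 600 = true := by decide +kernel

theorem rel114 : allRange 68400 600 nodeRel = true := by decide +kernel

theorem pz114 : data.powOK [6,4,1,9,7,3,2,1,10,11,8,5,0,1] 17 pwZ 68400 600 = true := by decide +kernel

theorem pe114 : Big.powEndOK data [8,5,0,1,2,3,4] 9 10 pwE 68400 600 = true := by decide +kernel

theorem rel115 : allRange 69000 600 nodeRel = true := by decide +kernel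

theorem pz115 : data.powOK [6,4,1,9,7,3,2,1,10,11,8,5,0,1] 17 pwZ 69000 600 = true := by decide +kernel

theorem pe115 : Big.powEndOK data [8,5,0,1,2,3,4] 9 10 pwE 69000 600 = true := by decide +kernel

theorem rel116 : allRange 69600 600 nodeRel = true := by decide +kernel

theorem pz116 : data.powOK [6,4,1,9,7,3,2,1,10,11,8,5,0,1] 17 pwZ 69600 600 = true := by decide +kernel

theorem pe116 : Big.powEndOK data [8,5,0,1,2,3,4] 9 10 pwE 69600 600 = true := by decide +kernel

theorem rel117 : allRange 70200 600 nodeRel = true := by decide +kernel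

theorem pz117 : data.powOK [6,4,1,9,7,3,2,1,10,11,8,5,0,1] 17 pwZ 70200 600 = true := by decide +kernel

theorem pe117 : Big.powEndOK data [8,5,0,1,2,3,4] 9 10 pwE 70200 600 = true := by decide +kernel

theorem rel118 : allRange 70800 600 nodeRel = true := by decide +kernel

theorem pz118 : data.powOK [6,4,1,9,7,3,2,1,10,11,8,5,0,1] 17 pwZ 70800 600 = true := by decide +kernel

theorem pe118 : Big.powEndOK data [8,5,0,1,2,3,4] 9 10 pwE 70800 600 = true := by decide +kernel

theorem rel119 : allRange 71400 600 nodeRel = true := by decide +kernel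

theorem pz119 : data.powOK [6,4,1,9,7,3,2,1,10,11,8,5,0,1] 17 pwZ 71400 600 = true := by decide +kernel

theorem pe119 : Big.powEndOK data [8,5,0,1,2,3,4] 9 10 pwE 71400 600 = true := by decide +kernel

theorem rel120 : allRange 72000 600 nodeRel = true := by decide +kernel

theorem pz120 : data.powOK [6,4,1,9,7,3,2,1,10,11,8,5,0,1] 17 pwZ 72000 600 = true := by decide +kernel

theorem pe120 : Big.powEndOK data [8,5,0,1,2,3,4] 9 10 pwE 72000 600 = true := by decide +kernel

theorem rel121 : allRange 72600 600 nodeRel = true := by decide +kernel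

theorem pz121 : data.powOK [6,4,1,9,7,3,2,1,10,11,8,5,0,1] 17 pwZ 72600 600 = true := by decide +kernel

theorem pe121 : Big.powEndOK data [8,5,0,1,2,3,4] 9 10 pwE 72600 600 = true := by decide +kernel

theorem rel122 : allRange 73200 600 nodeRel = true := by decide +kernel

theorem pz122 : data.powOK [6,4,1,9,7,3,2,1,10,11,8,5,0,1] 17 pwZ 73200 600 = true := by decide +kernel

theorem pe122 : Big.powEndOK data [8,5,0,1,2,3,4] 9 10 pwE 73200 600 = true := by decide +kernel

theorem rel123 : allRange 73800 600 nodeRel = true := by decide +kernel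

theorem pz123 : data.powOK [6,4,1,9,7,3,2,1,10,11,8,5,0,1] 17 pwZ 73800 600 = true := by decide +kernel

theorem pe123 : Big.powEndOK data [8,5,0,1,2,3,4] 9 10 pwE 73800 600 = true := by decide +kernel

theorem rel124 : allRange 74400 600 nodeRel = true := by decide +kernel

theorem pz124 : data.powOK [6,4,1,9,7,3,2,1,10,11,8,5,0,1] 17 pwZ 74400 600 = true := by decide +kernel

theorem pe124 : Big.powEndOK data [8,5,0,1,2,3,4] 9 10 pwE 74400 600 = true := by decide +kernel

theorem rel125 : allRange 75000 600 nodeRel = true := by decide +kernel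

theorem pz125 : data.powOK [6,4,1,9,7,3,2,1,10,11,8,5,0,1] 17 pwZ 75000 600 = true := by decide +kernel

theorem pe125 : Big.powEndOK data [8,5,0,1,2,3,4] 9 10 pwE 75000 600 = true := by decide +kernel

theorem rel126 : allRange 75600 600 nodeRel = true := by decide +kernel

theorem pz126 : data.powOK [6,4,1,9,7,3,2,1,10,11,8,5,0,1] 17 pwZ 75600 600 = true := by decide +kernel

theorem pe126 : Big.powEndOK data [8,5,0,1,2,3,4] 9 10 pwE 75600 600 = true := by decide +kernel

theorem rel127 : allRange 76200 600 nodeRel = true := by decide +kernel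

theorem pz127 : data.powOK [6,4,1,9,7,3,2,1,10,11,8,5,0,1] 17 pwZ 76200 600 = true := by decide +kernel

theorem pe127 : Big.powEndOK data [8,5,0,1,2,3,4] 9 10 pwE 76200 600 = true := by decide +kernel

end H47.Fi24.Tab
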