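import Cfsg.Agent.H47.Fi24.Tab.RelDef

/-!
Checks of the relators (generated).
-/

set_option autoImplicit false
set_option maxRecDepth 100000
set_option linter.all false
set_option Elab.async false

namespace H47.Fi24.Tab

open H93.Coset

theorem rel128 : allRange 76800 600 nodeRel = true := by decide +kernel

theorem pz128 : data.powOK [6,4,1,9,7,3,2,1,10,11,8,5,0,1] 17 pwZ 76800 600 = true := by decide +kernel

theorem pe128 : Big.powEndOK data [8,5,0,1,2,3,4] 9 10 pwE 76800 600 = true := by decide +kernel

theorem rel129 : allRange 77400 600 nodeRel = true := by decide +kernel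

theorem pz129 : data.powOK [6,4,1,9,7,3,2,1,10,11,8,5,0,1] 17 pwZ 77400 600 = true := by decide +kernel

theorem pe129 : Big.powEndOK data [8,5,0,1,2,3,4] 9 10 pwE 77400 600 = true := by decide +kernel

theorem rel130 : allRange 78000 600 nodeRel = true := by decide +kernel

theorem pz130 : data.powOK [6,4,1,9,7,3,2,1,10,11,8,5,0,1] 17 pwZ 78000 600 = true := by decide +kernel

theorem pe130 : Big.powEndOK data [8,5,0,1,2,3,4] 9 10 pwE 78000 600 = true := by decide +kernel

theorem rel131 : allRange 78600 600 nodeRel = true := by decide +kernel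

theorem pz131 : data.powOK [6,4,1,9,7,3,2,1,10,11,8,5,0,1] 17 pwZ 78600 600 = true := by decide +kernel

theorem pe131 : Big.powEndOK data [8,5,0,1,2,3,4] 9 10 pwE 78600 600 = true := by decide +kernel

theorem rel132 : allRange 79200 600 nodeRel = true := by decide +kernel

theorem pz132 : data.powOK [6,4,1,9,7,3,2,1,10,11,8,5,0,1] 17 pwZ 79200 600 = true := by decide +kernel

theorem pe132 : Big.powEndOK data [8,5,0,1,2,3,4] 9 10 pwE 79200 600 = true := by decide +kernel

theorem rel133 : allRange 79800 600 nodeRel = true := by decide +kernel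

theorem pz133 : data.powOK [6,4,1,9,7,3,2,1,10,11,8,5,0,1] 17 pwZ 79800 600 = true := by decide +kernel

theorem pe133 : Big.powEndOK data [8,5,0,1,2,3,4] 9 10 pwE 79800 600 = true := by decide +kernel

theorem rel134 : allRange 80400 600 nodeRel = true := by decide +kernel

theorem pz134 : data.powOK [6,4,1,9,7,3,2,1,10,11,8,5,0,1] 17 pwZ 80400 600 = true := by decide +kernel

theorem pe134 : Big.powEndOK data [8,5,0,1,2,3,4] 9 10 pwE 80400 600 = true := by decide +kernel

theorem rel135 : allRange 81000 600 nodeRel = true := by decide +kernel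

theorem pz135 : data.powOK [6,4,1,9,7,3,2,1,10,11,8,5,0,1] 17 pwZ 81000 600 = true := by decide +kernel

theorem pe135 : Big.powEndOK data [8,5,0,1,2,3,4] 9 10 pwE 81000 600 = true := by decide +kernel

theorem rel136 : allRange 81600 600 nodeRel = true := by decide +kernel

theorem pz136 : data.powOK [6,4,1,9,7,3,2,1,10,11,8,5,0,1] 17 pwZ 81600 600 = true := by decide +kernel

theorem pe136 : Big.powEndOK data [8,5,0,1,2,3,4] 9 10 pwE 81600 600 = true := by decide +kernel

theorem rel137 : allRange 82200 600 nodeRel = true := by decide +kernel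

theorem pz137 : data.powOK [6,4,1,9,7,3,2,1,10,11,8,5,0,1] 17 pwZ 82200 600 = true := by decide +kernel

theorem pe137 : Big.powEndOK data [8,5,0,1,2,3,4] 9 10 pwE 82200 600 = true := by decide +kernel

theorem rel138 : allRange 82800 600 nodeRel = true := by decide +kernel

theorem pz138 : data.powOK [6,4,1,9,7,3,2,1,10,11,8,5,0,1] 17 pwZ 82800 600 = true := by decide +kernel

theorem pe138 : Big.powEndOK data [8,5,0,1,2,3,4] 9 10 pwE 82800 600 = true := by decide +kernel

theorem rel139 : allRange 83400 600 nodeRel = true := by decide +kernel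

theorem pz139 : data.powOK [6,4,1,9,7,3,2,1,10,11,8,5,0,1] 17 pwZ 83400 600 = true := by decide +kernel

theorem pe139 : Big.powEndOK data [8,5,0,1,2,3,4] 9 10 pwE 83400 600 = true := by decide +kernel

theorem rel140 : allRange 84000 600 nodeRel = true := by decide +kernel

theorem pz140 : data.powOK [6,4,1,9,7,3,2,1,10,11,8,5,0,1] 17 pwZ 84000 600 = true := by decide +kernel

theorem pe140 : Big.powEndOK data [8,5,0,1,2,3,4] 9 10 pwE 84000 600 = true := by decide +kernel

theorem rel141 : allRange 84600 600 nodeRel = true := by decide +kernel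

theorem pz141 : data.powOK [6,4,1,9,7,3,2,1,10,11,8,5,0,1] 17 pwZ 84600 600 = true := by decide +kernel

theorem pe141 : Big.powEndOK data [8,5,0,1,2,3,4] 9 10 pwE 84600 600 = true := by decide +kernel

theorem rel142 : allRange 85200 600 nodeRel = true := by decide +kernel

theorem pz142 : data.powOK [6,4,1,9,7,3,2,1,10,11,8,5,0,1] 17 pwZ 85200 600 = true := by decide +kernel

theorem pe142 : Big.powEndOK data [8,5,0,1,2,3,4] 9 10 pwE 85200 600 = true := by decide +kernel

theorem rel143 : allRange 85800 600 nodeRel = true := by decide +kernel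

theorem pz143 : data.powOK [6,4,1,9,7,3,2,1,10,11,8,5,0,1] 17 pwZ 85800 600 = true := by decide +kernel

theorem pe143 : Big.powEndOK data [8,5,0,1,2,3,4] 9 10 pwE 85800 600 = true := by decide +kernel

end H47.Fi24.Tab
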