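import Cfsg.Agent.H47.Fi24.Tab.RelDef

/-!
Checks of the relators (generated).
-/

set_option autoImplicit false
set_option maxRecDepth 100000
set_option linter.all false
set_option Elab.async false

namespace H47.Fi24.Tab

open H93.Coset

theorem rel144 : allRange 86400 600 nodeRel = true := by decide +kernel

theorem pz144 : data.powOK [6,4,1,9,7,3,2,1,10,11,8,5,0,1] 17 pwZ 86400 600 = true := by decide +kernel

theorem pe144 : Big.powEndOK data [8,5,0,1,2,3,4] 9 10 pwE 86400 600 = true := by decide +kernel

theorem rel145 : allRange 87000 600 nodeRel = true := by decide +kernel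

theorem pz145 : data.powOK [6,4,1,9,7,3,2,1,10,11,8,5,0,1] 17 pwZ 87000 600 = true := by decide +kernel

theorem pe145 : Big.powEndOK data [8,5,0,1,2,3,4] 9 10 pwE 87000 600 = true := by decide +kernel

theorem rel146 : allRange 87600 600 nodeRel = true := by decide +kernel

theorem pz146 : data.powOK [6,4,1,9,7,3,2,1,10,11,8,5,0,1] 17 pwZ 87600 600 = true := by decide +kernel

theorem pe146 : Big.powEndOK data [8,5,0,1,2,3,4] 9 10 pwE 87600 600 = true := by decide +kernel

theorem rel147 : allRange 88200 600 nodeRel = true := by decide +kernel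

theorem pz147 : data.powOK [6,4,1,9,7,3,2,1,10,11,8,5,0,1] 17 pwZ 88200 600 = true := by decide +kernel

theorem pe147 : Big.powEndOK data [8,5,0,1,2,3,4] 9 10 pwE 88200 600 = true := by decide +kernel

theorem rel148 : allRange 88800 600 nodeRel = true := by decide +kernel

theorem pz148 : data.powOK [6,4,1,9,7,3,2,1,10,11,8,5,0,1] 17 pwZ 88800 600 = true := by decide +kernel

theorem pe148 : Big.powEndOK data [8,5,0,1,2,3,4] 9 10 pwE 88800 600 = true := by decide +kernel

theorem rel149 : allRange 89400 600 nodeRel = true := by decide +kernel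

theorem pz149 : data.powOK [6,4,1,9,7,3,2,1,10,11,8,5,0,1] 17 pwZ 89400 600 = true := by decide +kernel

theorem pe149 : Big.powEndOK data [8,5,0,1,2,3,4] 9 10 pwE 89400 600 = true := by decide +kernel

theorem rel150 : allRange 90000 600 nodeRel = true := by decide +kernel

theorem pz150 : data.powOK [6,4,1,9,7,3,2,1,10,11,8,5,0,1] 17 pwZ 90000 600 = true := by decide +kernel

theorem pe150 : Big.powEndOK data [8,5,0,1,2,3,4] 9 10 pwE 90000 600 = true := by decide +kernel

theorem rel151 : allRange 90600 600 nodeRel = true := by decide +kernel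

theorem pz151 : data.powOK [6,4,1,9,7,3,2,1,10,11,8,5,0,1] 17 pwZ 90600 600 = true := by decide +kernel

theorem pe151 : Big.powEndOK data [8,5,0,1,2,3,4] 9 10 pwE 90600 600 = true := by decide +kernel

theorem rel152 : allRange 91200 600 nodeRel = true := by decide +kernel

theorem pz152 : data.powOK [6,4,1,9,7,3,2,1,10,11,8,5,0,1] 17 pwZ 91200 600 = true := by decide +kernel

theorem pe152 : Big.powEndOK data [8,5,0,1,2,3,4] 9 10 pwE 91200 600 = true := by decide +kernel

theorem rel153 : allRange 91800 600 nodeRel = true := by decide +kernel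

theorem pz153 : data.powOK [6,4,1,9,7,3,2,1,10,11,8,5,0,1] 17 pwZ 91800 600 = true := by decide +kernel

theorem pe153 : Big.powEndOK data [8,5,0,1,2,3,4] 9 10 pwE 91800 600 = true := by decide +kernel

theorem rel154 : allRange 92400 600 nodeRel = true := by decide +kernel

theorem pz154 : data.powOK [6,4,1,9,7,3,2,1,10,11,8,5,0,1] 17 pwZ 92400 600 = true := by decide +kernel

theorem pe154 : Big.powEndOK data [8,5,0,1,2,3,4] 9 10 pwE 92400 600 = true := by decide +kernel

theorem rel155 : allRange 93000 600 nodeRel = true := by decide +kernel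

theorem pz155 : data.powOK [6,4,1,9,7,3,2,1,10,11,8,5,0,1] 17 pwZ 93000 600 = true := by decide +kernel

theorem pe155 : Big.powEndOK data [8,5,0,1,2,3,4] 9 10 pwE 93000 600 = true := by decide +kernel

theorem rel156 : allRange 93600 600 nodeRel = true := by decide +kernel

theorem pz156 : data.powOK [6,4,1,9,7,3,2,1,10,11,8,5,0,1] 17 pwZ 93600 600 = true := by decide +kernel

theorem pe156 : Big.powEndOK data [8,5,0,1,2,3,4] 9 10 pwE 93600 600 = true := by decide +kernel

theorem rel157 : allRange 94200 600 nodeRel = true := by decide +kernel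

theorem pz157 : data.powOK [6,4,1,9,7,3,2,1,10,11,8,5,0,1] 17 pwZ 94200 600 = true := by decide +kernel

theorem pe157 : Big.powEndOK data [8,5,0,1,2,3,4] 9 10 pwE 94200 600 = true := by decide +kernel

theorem rel158 : allRange 94800 600 nodeRel = true := by decide +kernel

theorem pz158 : data.powOK [6,4,1,9,7,3,2,1,10,11,8,5,0,1] 17 pwZ 94800 600 = true := by decide +kernel

theorem pe158 : Big.powEndOK data [8,5,0,1,2,3,4] 9 10 pwE 94800 600 = true := by decide +kernel

theorem rel159 : allRange 95400 600 nodeRel = true := by decide +kernel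

theorem pz159 : data.powOK [6,4,1,9,7,3,2,1,10,11,8,5,0,1] 17 pwZ 95400 600 = true := by decide +kernel

theorem pe159 : Big.powEndOK data [8,5,0,1,2,3,4] 9 10 pwE 95400 600 = true := by decide +kernel

end H47.Fi24.Tab
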