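import Cfsg.Agent.H47.Fi24.Tab.RA0
import Cfsg.Agent.H47.Fi24.Tab.RA1
import Cfsg.Agent.H47.Fi24.Tab.RA2
import Cfsg.Agent.H47.Fi24.Tab.RA3
import Cfsg.Agent.H47.Fi24.Tab.RA4
import Cfsg.Agent.H47.Fi24.Tab.RA5
import Cfsg.Agent.H47.Fi24.Tab.RB0
import Cfsg.Agent.H47.Fi24.Tab.RB1
import Cfsg.Agent.H47.Fi24.Tab.RB2
import Cfsg.Agent.H47.Fi24.Tab.RB3
import Cfsg.Agent.H47.Fi24.Tab.RB4
import Cfsg.Agent.H47.Fi24.Tab.RB5
import Cfsg.Agent.H47.Fi24.Tab.WZ0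
import Cfsg.Agent.H47.Fi24.Tab.WZ1
import Cfsg.Agent.H47.Fi24.Tab.WE0
import Cfsg.Agent.H47.Fi24.Tab.WE1
import Cfsg.Agent.H93.CosetFast

/-!
A coset table of the presented Fi24 (generated data).
-/

set_option autoImplicit false
set_option maxRecDepth 100000
set_option linter.all false
set_option Elab.async false

namespace H47.Fi24.Tab

open H93.Coset

noncomputable section

noncomputable def raChunk (k : ℕ) : ℕ := (Bool.rec (motive := fun _ => ℕ) (Bool.rec (motive := fun _ => ℕ) (raSel0 k) (Bool.rec (motive := fun _ => ℕ) (raSel1 (Nat.sub k 100)) (raSel2 (Nat.sub k 200)) (Nat.ble 200 k)) (Nat.ble 100 k)) (Bool.rec (motive := fun _ => ℕ) (raSel3 (Nat.sub k 300)) (Bool.rec (motive := fun _ => ℕ) (raSel4 (Nat.sub k 400)) (raSel5 (Nat.sub k 500)) (Nat.ble 500 k)) (Nat.ble 400 k)) (Nat.ble 300 k))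

noncomputable def rbChunk (k : ℕ) : ℕ := (Bool.rec (motive := fun _ => ℕ) (Bool.rec (motive := fun _ => ℕ) (rbSel0 k) (Bool.rec (motive := fun _ => ℕ) (rbSel1 (Nat.sub k 100)) (rbSel2 (Nat.sub k 200)) (Nat.ble 200 k)) (Nat.ble 100 k)) (Bool.rec (motive := fun _ => ℕ) (rbSel3 (Nat.sub k 300)) (Bool.rec (motive := fun _ => ℕ) (rbSel4 (Nat.sub k 400)) (rbSel5 (Nat.sub k 500)) (Nat.ble 500 k)) (Nat.ble 400 k)) (Nat.ble 300 k))

noncomputable def wzChunk (k : ℕ) : ℕ := (Bool.rec (motive := fun _ => ℕ) (wzSel0 k) (wzSel1 (Nat.sub k 200)) (Nat.ble 200 k))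

noncomputable def weChunk (k : ℕ) : ℕ := (Bool.rec (motive := fun _ => ℕ) (weSel0 k) (weSel1 (Nat.sub k 200)) (Nat.ble 200 k))

def patch0 : Patch := ([(639,3),(905,3),(2806,5),(2822,3),(306938,0),(306940,1),(5062,4),(6117,4),(306941,2),(306944,3)], [(639,3,306936,0,[],[]),(306936,10,636,50,[(0,10,436),(1,0,0)],[(0,3,436)]),(655,5,306936,63,[(0,10,454)],[(0,5,454),(2,0,1)]),(905,3,306937,0,[],[]),(306937,11,306936,51,[(0,11,639),(1,0,3)],[(1,0,0)]),(917,5,306937,64,[(0,11,655)],[(1,0,2),(2,0,4)]),(306937,4,306937,44,[(0,4,905),(1,0,3)],[(1,0,3)]),(306937,8,306937,48,[(0,8,905),(1,0,3)],[(1,0,3)]),(2806,5,306938,0,[],[]),(306938,11,2802,64,[(0,11,2041),(1,0,8)],[(0,5,2041)]),(2822,3,306939,0,[],[]),(306939,8,2806,48,[(0,8,2049),(1,0,10)],[(0,3,2049)]),(2829,1,306938,34,[(0,11,2052)],[(0,1,2052),(2,0,9)]),(2835,1,306939,31,[(0,8,2056)],[(0,1,2056),(2,0,11)]),(306939,4,306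939,27,[(0,4,2248),(1,0,13)],[(0,1,2248),(0,4,2248),(1,0,13)]),(306938,0,306940,0,[],[]),(306940,1,306941,0,[],[]),(306941,0,5020,14,[(1,0,12),(1,0,15),(1,0,16)],[(0,0,2829),(0,1,3711)]),(5062,4,306942,0,[],[]),(306941,11,5012,24,[(0,11,3669),(2,0,17)],[(0,0,3669)]),(5047,3,306941,51,[(0,11,3684)],[(0,3,3684),(2,0,19)]),(6117,4,306943,0,[],[]),(306941,2,306944,0,[],[]),(306944,3,306945,0,[],[]),(306945,2,8086,35,[(1,0,20),(1,0,22),(1,0,23)],[(0,2,5047),(0,3,6116)]),(306942,2,306943,36,[(1,0,18)],[(0,2,5062),(1,0,21)]),(306945,12,306942,80,[(0,8,5062),(0,5,3692),(0,0,2684),(0,1,2684),(0,2,1970),(0,3,1446),(0,4,1446),(0,8,1148),(0,5,1148),(0,0,1581),(0,1,1201),(0,2,932),(0,3,932),(0,4,932),(0,8,932),(0,5,1279),(0,0,1742),(0,1,2371),(0,2,2371),(0,3,2371),(0,4,2371),(0,8,2371),(0,5,1754),(0,0,1297),(0,1,946),(0,2,684),(0,3,491),(0,4,359),(0,8,246),(0,5,246),(0,0,163),(0,1,244),(0,2,244),(0,3,244),(0,4,311),(0,8,462),(0,5,308),(0,0,445),(0,1,445),(0,2,645),(1,0,3),(1,0,6),(1,0,7),(2,0,5),(0,0,917),(0,1,917),(0,2,1211),(0,3,1211),(0,4,871),(0,8,1104),(0,5,1527),(0,0,1527),(0,1,2069),(0,2,2822),(1,0,10),(1,0,14),(1,0,11),(1,0,8),(1,0,15),(1,0,16),(1,0,22),(1,0,23)],[(0,10,5062),(1,0,18)]),(8086,12,306943,1,[(2,0,24),(1,0,26),(1,0,25)],[]),(8086,4,6117,1,[(1,0,27),(2,0,21)],[]),(6117,4,8086,1,[(2,0,28)],[])])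

def patch1 : Patch := ([(351,8),(890,2),(639,8),(890,1),(1137,3),(1137,8),(306940,5),(1560,4),(1561,4),(1561,8),(1951,4),(306941,5),(306947,8),(2847,11),(306944,5),(306944,8),(306945,5),(306952,8),(2668,4),(306942,8),(3084,11),(306951,1),(2638,3),(2668,2),(2670,4),(2940,5),(306950,8),(2978,3),(3259,4),(3620,4),(306959,0),(306954,0),(3668,2),(306966,3),(306968,3),(3733,3),(306962,5),(4107,3),(4432,4),(306965,0),(306967,2),(5011,2),(306976,3),(306977,3)], [(351,8,306936,0,[],[]),(306936,10,350,75,[(0,10,235),(1,0,0)],[(0,8,235)]),(890,2,306937,0,[],[]),(306937,3,500,35,[(0,3,348),(0,2,435),(0,3,632),(1,0,2)],[(0,2,348)]),(306936,3,643,50,[(2,0,1)],[(0,3,350),(0,10,438)]),(639,8,306938,0,[],[]),(306938,10,638,75,[(0,10,436),(1,0,5)],[(0,8,436)]),(643,2,306938,42,[(0,10,438)],[(0,2,438),(2,0,6)]),(1156,1,306938,25,[(0,2,443),(0,1,587),(0,2,830)],[(0,1,443),(1,0,7)]),(890,1,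306939,0,[],[]),(1556,0,306939,14,[(0,1,636),(0,0,822),(0,1,1133)],[(0,0,636),(1,0,9)]),(1137,3,306940,0,[],[]),(306940,10,1133,50,[(0,10,817),(1,0,11)],[(0,3,817)]),(1137,8,306941,0,[],[]),(306941,10,1136,75,[(0,10,817),(1,0,13)],[(0,8,817)]),(1156,0,306941,23,[(0,10,824)],[(0,0,824),(2,0,14)]),(306940,5,306942,0,[],[]),(1560,4,306943,0,[],[]),(306943,8,1557,55,[(0,8,1132),(1,0,17)],[(0,4,1132)]),(1561,4,306944,0,[],[]),(306944,10,1557,57,[(0,10,1132),(1,0,19)],[(0,4,1132)]),(1561,8,306945,0,[],[]),(306945,10,1560,75,[(0,10,1132),(1,0,21)],[(0,8,1132)]),(1951,4,306946,0,[],[]),(306942,10,1562,63,[(2,0,12),(1,0,16)],[(0,5,1133)]),(306941,1,306945,33,[(2,0,14)],[(0,1,1136),(2,0,22)]),(306941,4,1768,57,[(2,0,14)],[(0,4,1136),(0,10,1435)]),(306941,5,306947,0,[],[]),(306947,8,306948,0,[],[]),(306948,5,2156,61,[(1,0,13),(1,0,27),(1,0,28)],[(0,5,1137),(0,8,1566)]),(1952,3,30694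6,44,[(0,4,1431)],[(0,3,1431),(1,0,23)]),(2847,11,306949,0,[],[]),(306949,8,2845,76,[(0,11,1500),(0,8,2063),(1,0,31)],[(0,8,1500),(0,11,2061)]),(306944,5,306950,0,[],[]),(306950,10,2135,63,[(2,0,20),(1,0,33)],[(0,5,1557)]),(306944,8,306951,0,[],[]),(306951,10,306943,75,[(2,0,20),(1,0,35)],[(2,0,18)]),(306945,4,306951,57,[(2,0,22)],[(1,0,17),(2,0,36)]),(306945,5,306952,0,[],[]),(306952,8,306953,0,[],[]),(306953,5,2948,61,[(1,0,21),(1,0,38),(1,0,39)],[(0,5,1561),(0,8,2139)]),(2668,4,306954,0,[],[]),(306942,8,306955,0,[],[]),(306955,10,2148,75,[(2,0,24),(1,0,42)],[(0,8,1562)]),(2156,3,306955,50,[(0,10,1565)],[(0,3,1565),(2,0,43)]),(306948,10,2155,63,[(0,10,1565),(2,0,29)],[(0,5,1565)]),(2240,0,306955,23,[(0,10,1630)],[(0,0,1630),(2,0,43)]),(3084,11,306956,0,[],[]),(306956,8,3082,76,[(0,11,1631),(0,8,2242),(1,0,47)],[(0,8,1631),(0,11,2240)]),(306951,1,306957,0,[],[]),(306957,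4,2396,27,[(2,0,26),(1,0,25),(1,0,37),(1,0,49)],[(0,1,1768)]),(2413,2,306957,36,[(0,4,1779)],[(0,2,1779),(2,0,50)]),(2638,3,306958,0,[],[]),(306958,4,2637,44,[(0,4,1930),(1,0,52)],[(0,3,1930)]),(2668,2,306959,0,[],[]),(306954,5,306946,52,[(0,5,1951),(1,0,41)],[(1,0,23)]),(2670,4,306960,0,[],[]),(306960,8,306946,55,[(0,8,1951),(1,0,56)],[(1,0,23)]),(2672,3,306954,45,[(0,5,1952)],[(1,0,30),(2,0,55)]),(2940,5,306961,0,[],[]),(306950,8,306962,0,[],[]),(306962,10,2940,75,[(2,0,34),(1,0,60)],[(0,8,2135)]),(2947,4,306961,52,[(0,5,2138)],[(0,4,2138),(1,0,59)]),(306953,10,2947,63,[(0,10,2138),(2,0,40)],[(0,5,2138)]),(306948,1,306953,33,[(2,0,45)],[(0,1,2155),(2,0,63)]),(306948,4,3262,57,[(2,0,45)],[(0,4,2155),(0,10,2699)]),(2978,3,306963,0,[],[]),(306963,11,306955,51,[(0,11,2156),(1,0,66)],[(1,0,44)]),(3082,0,306963,24,[(0,11,2240)],[(1,0,46),(2,0,67)]),(3110,3,306956,48,[(0,8,225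8)],[(0,3,2258),(2,0,48)]),(3110,4,306949,55,[(0,8,2258)],[(0,4,2258),(2,0,32)]),(306956,2,306956,35,[(0,3,2286),(0,2,2286),(1,0,69)],[(0,2,2286),(1,0,69)]),(3259,4,306964,0,[],[]),(306964,5,306957,52,[(0,5,2396),(1,0,72)],[(2,0,50)]),(3286,2,306964,37,[(0,5,2413)],[(1,0,51),(2,0,73)]),(3620,4,306965,0,[],[]),(306965,5,306958,52,[(0,5,2637),(1,0,75)],[(2,0,53)]),(3622,3,306965,45,[(0,5,2638)],[(1,0,52),(2,0,76)]),(306959,0,306966,0,[],[]),(306966,2,3666,15,[(1,0,54),(1,0,78)],[(0,0,2668)]),(306954,0,306967,0,[],[]),(306967,4,3666,17,[(1,0,41),(1,0,80)],[(0,0,2668)]),(3668,2,306968,0,[],[]),(306967,3,3677,16,[(1,0,58),(1,0,80)],[(0,0,2672)]),(306966,3,306969,0,[],[]),(306969,2,4943,35,[(0,3,2674),(2,0,79),(1,0,84)],[(0,2,2674),(0,3,3624)]),(306968,3,306970,0,[],[]),(306970,2,4945,35,[(0,3,2676),(1,0,82),(1,0,86)],[(0,2,2676),(0,3,3626)]),(3733,3,306971,0,[],[]),(306967,1,3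06967,27,[(0,4,2799),(0,1,2799),(2,0,81)],[(0,1,2799),(2,0,81)]),(306962,5,306972,0,[],[]),(306972,10,306961,63,[(2,0,61),(1,0,90)],[(1,0,59)]),(306953,4,306972,57,[(2,0,63)],[(1,0,62),(2,0,91)]),(306971,4,306963,44,[(0,4,2978),(1,0,88)],[(1,0,66)]),(4107,3,306973,0,[],[]),(306973,8,306963,48,[(0,8,2978),(1,0,94)],[(1,0,66)]),(306956,0,306973,21,[(2,0,48)],[(1,0,68),(2,0,95)]),(306956,1,306956,31,[(2,0,48)],[(0,1,3082),(2,0,48)]),(4432,4,306974,0,[],[]),(306974,8,306964,55,[(0,8,3259),(1,0,98)],[(1,0,72)]),(306972,1,306974,27,[(2,0,65),(1,0,64),(1,0,92)],[(0,1,3262),(1,0,98)]),(4479,2,306974,40,[(0,8,3286)],[(1,0,74),(2,0,99)]),(306965,0,306975,0,[],[]),(306975,4,4943,17,[(1,0,75),(1,0,102)],[(0,0,3620)]),(306975,3,4948,16,[(1,0,77),(1,0,102)],[(0,0,3622)]),(306967,2,306976,0,[],[]),(5011,2,306977,0,[],[]),(306976,3,306978,0,[],[]),(306978,2,306975,35,[(2,0,83),(1,0,105),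(1,0,107)],[(0,2,3677),(2,0,104)]),(306977,3,306979,0,[],[]),(306979,2,6679,35,[(0,3,3683),(1,0,106),(1,0,109)],[(0,2,3683),(0,3,4954)]),(306973,5,306973,45,[(0,5,4107),(1,0,94)],[(1,0,94)]),(306978,4,306969,36,[(2,0,103),(2,0,108)],[(2,0,85)]),(306979,8,306969,40,[(0,8,4943),(2,0,110)],[(2,0,85)]),(306970,0,306979,15,[(2,0,87)],[(0,0,4945),(2,0,110)]),(306979,12,8048,80,[(0,8,4954),(0,5,3624),(0,0,3624),(0,1,2639),(0,2,1932),(0,3,1418),(0,4,1418),(0,8,1418),(0,5,1935),(0,0,2437),(0,1,1867),(0,2,1867),(0,3,2540),(0,4,3475),(0,8,3475),(0,5,2531),(0,0,1855),(0,1,1376),(0,2,1376),(0,3,1376),(0,4,1006),(0,8,1006),(0,5,1006),(0,0,1325),(0,1,1784),(0,2,2417),(0,3,1955),(1,0,56),(1,0,57),(2,0,55),(1,0,80),(1,0,89),(1,0,105),(1,0,107),(1,0,112),(2,0,113)],[(0,10,4954),(0,4,6096),(0,3,8070),(0,2,6097),(0,1,5060),(0,0,3733),(0,5,2845),(2,0,32),(2,0,70),(1,0,69),(1,0,71),(1,0,97),(1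,0,96),(1,0,111),(1,0,95),(2,0,93),(2,0,88),(0,2,3733),(0,1,2724),(0,0,3339),(0,5,3339),(0,8,2438),(0,4,2438),(0,3,2438),(0,2,2438),(0,1,3317),(0,0,4497),(0,5,6084)]),(306970,12,6030,1,[(1,0,114),(1,0,115),(0,0,8048)],[]),(306968,12,4479,1,[(1,0,86),(1,0,116),(0,3,6030)],[]),(3668,12,306974,1,[(1,0,82),(1,0,117),(1,0,101)],[]),(306972,12,2686,1,[(1,0,100),(2,0,118),(0,1,3668)],[]),(306953,12,2148,1,[(1,0,92),(1,0,119),(0,4,2686)],[]),(306948,12,2936,1,[(1,0,64),(1,0,120),(0,1,2148)],[]),(306947,12,2133,1,[(1,0,28),(1,0,121),(0,8,2936)],[]),(306941,12,1556,1,[(1,0,27),(1,0,122),(0,5,2133)],[]),(1156,12,306939,1,[(1,0,15),(1,0,123),(1,0,10)],[]),(890,12,306938,1,[(1,0,9),(2,0,124),(1,0,8)],[]),(643,12,306937,1,[(1,0,7),(2,0,125),(1,0,2)],[]),(500,12,306936,1,[(2,0,3),(2,0,126),(2,0,4)],[]),(500,3,643,1,[(1,0,127),(1,0,4)],[]),(500,3,643,1,[(1,0,128)],[])])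

def patch2 : Patch := ([(5290,0),(5346,0),(7147,0),(306936,5),(9538,9),(7218,4),(9554,5),(12491,9),(9535,7),(9578,2),(9577,4),(12519,5),(12418,0),(306945,7),(12521,4),(12548,2),(12548,4),(16308,3),(16268,5),(16344,9),(16410,9),(306943,5),(306951,7),(306949,3),(306950,5),(16272,4),(21104,3),(21068,5),(21164,9),(306957,8),(306958,3),(21062,8),(27230,3),(306956,3),(27318,9),(306965,3),(306964,3),(306969,2),(306971,2),(306970,3)], [(5290,0,306936,0,[],[]),(306936,7,5321,20,[(0,7,3887),(1,0,0)],[(0,0,3887)]),(306936,2,5345,15,[(0,2,3904),(1,0,0)],[(0,0,3904)]),(5346,0,306937,0,[],[]),(306937,4,5345,17,[(0,4,3904),(1,0,3)],[(0,0,3904)]),(306937,7,5378,54,[(0,7,3928),(2,0,4)],[(0,4,3928)]),(7147,0,306938,0,[],[]),(306938,9,306936,22,[(0,9,5290),(1,0,6)],[(1,0,0)]),(306936,5,306939,0,[],[]),(306939,7,7187,60,[(2,0,1),(1,0,8)],[(0,5,5321)]),(9538,9,306940,0,[],[]),(306940,7,3069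38,71,[(0,9,5321),(0,7,7188),(1,0,10)],[(2,0,1),(2,0,7)]),(7218,2,306939,37,[(0,5,5345)],[(2,0,2),(1,0,8)]),(7219,2,306938,41,[(0,9,5345)],[(2,0,2),(2,0,7)]),(7218,4,306941,0,[],[]),(306941,5,306937,52,[(0,5,5345),(1,0,14)],[(2,0,4)]),(9554,5,306942,0,[],[]),(306941,7,7262,60,[(2,0,5),(2,0,15)],[(0,5,5378)]),(9481,0,306940,20,[(0,7,7147)],[(1,0,6),(2,0,11)]),(12491,9,306943,0,[],[]),(9535,7,306944,0,[],[]),(306944,8,306939,70,[(0,8,7187),(1,0,20)],[(2,0,9)]),(9555,4,306942,52,[(0,5,7202)],[(0,4,7202),(1,0,16)]),(9577,2,306944,40,[(0,8,7218)],[(1,0,12),(2,0,21)]),(9578,2,306945,0,[],[]),(306945,9,306939,41,[(0,9,7218),(1,0,24)],[(1,0,12)]),(9577,4,306946,0,[],[]),(306946,8,306941,55,[(0,8,7218),(1,0,26)],[(1,0,14)]),(9580,2,306940,39,[(0,7,7219)],[(1,0,13),(2,0,11)]),(12519,5,306947,0,[],[]),(306942,7,9595,60,[(0,7,7232),(1,0,16)],[(0,5,7232)]),(9639,7,306946,70,[(0,8,7262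)],[(2,0,17),(2,0,27)]),(12418,0,306948,0,[],[]),(306948,3,306940,16,[(0,3,9481),(1,0,32)],[(1,0,18)]),(306945,7,306949,0,[],[]),(306949,9,12497,71,[(0,9,9536),(2,0,9),(2,0,25),(1,0,34)],[(0,7,9536)]),(306948,9,12500,49,[(1,0,10),(2,0,33)],[(0,3,9538)]),(306947,9,306942,62,[(0,9,9554),(1,0,29)],[(1,0,16)]),(12521,4,306950,0,[],[]),(306950,8,306942,55,[(0,8,9555),(1,0,38)],[(1,0,22)]),(12522,4,306947,56,[(0,9,9555)],[(1,0,22),(2,0,37)]),(12548,2,306951,0,[],[]),(306951,9,306944,41,[(0,9,9577),(1,0,41)],[(1,0,23)]),(12548,4,306952,0,[],[]),(306952,9,306946,56,[(0,9,9577),(1,0,43)],[(1,0,26)]),(12551,2,306949,39,[(0,7,9578)],[(1,0,24),(1,0,34)]),(16308,3,306953,0,[],[]),(306953,2,306948,35,[(0,3,9580),(0,2,12554),(1,0,46)],[(1,0,28),(2,0,33)]),(16268,5,306954,0,[],[]),(12574,7,306950,70,[(0,8,9595)],[(2,0,30),(2,0,39)]),(16344,9,306955,0,[],[]),(306955,7,306947,71,[(0,9,9595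),(0,7,12575),(1,0,50)],[(2,0,30),(2,0,37)]),(16410,9,306956,0,[],[]),(306956,7,306952,71,[(0,9,9639),(0,7,12633),(1,0,52)],[(1,0,31),(2,0,44)]),(16125,0,306953,15,[(0,2,12418)],[(1,0,32),(2,0,47)]),(306943,5,306957,0,[],[]),(306957,9,16231,62,[(1,0,19),(1,0,55)],[(0,5,12491)]),(306951,7,306958,0,[],[]),(306958,9,16238,71,[(0,9,12494),(1,0,20),(2,0,42),(1,0,57)],[(0,7,12494)]),(306949,3,306959,0,[],[]),(306959,9,16241,49,[(2,0,35),(1,0,59)],[(0,3,12497)]),(306953,9,16244,41,[(2,0,36),(2,0,47)],[(0,2,12500)]),(306950,5,306960,0,[],[]),(306960,8,16264,61,[(0,8,12518),(1,0,16),(2,0,39),(1,0,62)],[(0,5,12518)]),(306954,12,306955,60,[(0,7,12519),(1,0,48)],[(1,0,29),(2,0,51)]),(306954,7,306947,1,[(1,0,64),(1,0,51)],[]),(16272,4,306961,0,[],[]),(306961,9,306950,56,[(0,9,12521),(1,0,66)],[(1,0,38)]),(16275,4,306954,54,[(0,7,12522)],[(1,0,40),(2,0,65)]),(16302,2,306958,39,[(0,7,12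548)],[(1,0,41),(1,0,57)]),(16302,4,306956,54,[(0,7,12548)],[(1,0,43),(2,0,53)]),(21104,3,306962,0,[],[]),(306962,2,306959,35,[(0,3,12551),(0,2,16305),(1,0,71)],[(1,0,45),(1,0,59)]),(21068,5,306963,0,[],[]),(306960,7,16340,60,[(1,0,49),(1,0,62)],[(0,5,12574)]),(21164,9,306964,0,[],[]),(306964,7,306961,71,[(0,9,12574),(0,7,16341),(1,0,75)],[(1,0,49),(2,0,67)]),(306957,8,306965,0,[],[]),(306965,9,21021,74,[(2,0,56),(1,0,77)],[(0,8,16231)]),(306958,3,306966,0,[],[]),(306966,9,21031,49,[(2,0,58),(1,0,79)],[(0,3,16238)]),(306962,9,21034,41,[(2,0,60),(2,0,72)],[(0,2,16241)]),(306953,5,306962,62,[(2,0,61)],[(0,5,16244),(2,0,81)]),(21062,8,306967,0,[],[]),(306967,9,306960,74,[(0,9,16264),(1,0,83)],[(2,0,63)]),(306954,3,306963,45,[(1,0,48)],[(0,3,16268),(1,0,73)]),(21074,4,306964,54,[(0,7,16272)],[(1,0,66),(2,0,76)]),(306963,4,21077,44,[(1,0,68),(1,0,85)],[(0,3,16275)]),(27230,3,3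06968,0,[],[]),(306968,2,306966,35,[(0,3,16302),(0,2,21101),(1,0,88)],[(1,0,69),(1,0,79)]),(306956,3,306969,0,[],[]),(306969,4,21101,44,[(1,0,70),(1,0,90)],[(0,3,16302)]),(27318,9,306970,0,[],[]),(306970,7,306967,71,[(0,9,16340),(0,7,21161),(1,0,92)],[(2,0,74),(2,0,84)]),(306969,1,306969,27,[(0,4,16604),(0,1,16604),(2,0,91)],[(0,1,16604),(2,0,91)]),(306965,3,306971,0,[],[]),(306971,9,27141,49,[(2,0,78),(1,0,95)],[(0,3,21021)]),(306968,9,27151,41,[(2,0,80),(2,0,89)],[(0,2,21031)]),(306962,8,306968,74,[(2,0,81)],[(0,8,21034),(2,0,97)]),(306970,8,27191,70,[(1,0,83),(2,0,93)],[(0,7,21062)]),(306964,3,306972,0,[],[]),(306972,4,27205,44,[(1,0,86),(1,0,100)],[(0,3,21074)]),(306972,8,306963,55,[(0,8,21077),(2,0,101)],[(2,0,87)]),(306969,0,306972,17,[(2,0,91)],[(0,0,21101),(2,0,101)]),(306969,2,306973,0,[],[]),(306973,4,27230,36,[(2,0,91),(1,0,104)],[(0,2,21101)]),(306971,2,306974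,0,[],[]),(306974,9,34879,41,[(2,0,96),(1,0,106)],[(0,2,27141)]),(306968,4,306974,56,[(2,0,97)],[(0,4,27151),(2,0,107)]),(306970,3,306975,0,[],[]),(306975,8,34941,48,[(2,0,99),(1,0,109)],[(0,3,27191)]),(306972,5,306975,61,[(0,8,27195),(1,0,73),(2,0,102)],[(0,5,27195),(2,0,110)]),(306973,3,306974,44,[(2,0,105)],[(1,0,88),(1,0,108)]),(245153,3,264773,80,[(0,8,32192),(0,5,32192),(0,0,41041),(0,1,34581),(0,2,26927),(0,3,21080),(0,4,27211),(2,0,110),(2,0,111),(2,0,103),(1,0,94),(1,0,104),(1,0,112),(2,0,108),(2,0,98),(2,0,82),(2,0,54),(0,1,16125),(0,2,16125),(0,3,12418),(0,4,9481),(0,8,12415),(0,5,12415),(0,0,16115),(0,1,20858),(0,2,26921),(0,3,34599),(0,4,44144),(0,8,55786),(0,5,69767),(0,0,86110),(0,1,102823),(0,2,120644),(0,3,142220),(0,4,160074),(0,8,183420),(0,5,159452),(0,0,137025),(0,1,120458),(0,2,142009),(0,3,125237),(0,4,125237),(0,8,146996),(0,5,146996),(0,0,170015),(0,1,194555),(0,2,220032)],[(0,10,32192),(0,4,25079),(0,3,32177),(0,2,41029),(0,1,51906),(0,0,65007),(0,5,80422),(0,8,97994),(0,4,117502),(0,3,138628),(0,2,160525),(0,1,184641),(0,0,210135),(0,5,236116),(0,8,260484),(0,4,279647)]),(245153,3,264773,1,[(1,0,113)],[])])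

def patch3 : Patch := ([(9705,4),(306936,1),(306936,5),(306937,4),(306937,5),(306938,8),(306940,4),(17024,0),(306943,1),(20510,1),(306939,5),(306939,6),(306940,8),(16537,11),(306948,4),(306949,1),(23826,8),(32293,1),(26445,0),(306945,5),(306942,8),(26552,8),(306951,4),(306944,2),(306959,5),(30746,8),(30785,4),(26442,1),(34057,1),(34039,1),(306954,1),(34084,0),(306955,8),(34127,2),(306966,2),(306958,6),(39212,0),(39232,0),(49793,2),(306971,4),(306964,0),(306976,2),(43524,0),(306971,10),(306972,1),(49793,4),(306975,10),(306980,0),(306981,2)], [(9705,4,306936,0,[],[]),(306936,10,9687,57,[(0,10,7298),(1,0,0)],[(0,4,7298)]),(306936,1,306937,0,[],[]),(306937,10,12684,33,[(2,0,1),(1,0,2)],[(0,1,9687)]),(306936,5,306938,0,[],[]),(306938,10,12707,63,[(2,0,1),(1,0,4)],[(0,5,9687)]),(12728,4,306938,57,[(0,10,9700)],[(0,4,9700),(2,0,5)]),(306937,4,306939,0,[],[]),(306939,1,15813,27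,[(1,0,0),(1,0,2),(1,0,7)],[(0,1,9705),(0,4,12166)]),(306939,10,15784,33,[(0,10,12147),(2,0,8)],[(0,1,12147)]),(306937,5,306940,0,[],[]),(306940,10,16482,63,[(2,0,3),(1,0,10)],[(0,5,12684)]),(306938,1,306940,33,[(2,0,5)],[(0,1,12707),(2,0,11)]),(306938,8,306941,0,[],[]),(306941,10,16514,75,[(2,0,5),(1,0,13)],[(0,8,12707)]),(16537,4,306941,57,[(0,10,12727)],[(0,4,12727),(2,0,14)]),(306940,4,306942,0,[],[]),(306942,1,20523,27,[(1,0,6),(1,0,12),(1,0,16)],[(0,1,12728),(0,4,15838)]),(17024,0,306943,0,[],[]),(306943,11,17022,24,[(0,11,13132),(1,0,18)],[(0,0,13132)]),(306943,1,306944,0,[],[]),(20510,1,306945,0,[],[]),(306939,5,306946,0,[],[]),(306946,10,20475,63,[(2,0,9),(1,0,22)],[(0,5,15784)]),(306939,6,306947,0,[],[]),(306947,10,20468,68,[(2,0,9),(1,0,24)],[(0,6,15784)]),(306945,12,306947,33,[(0,10,15801),(1,0,21)],[(0,1,15801),(2,0,25)]),(306945,10,20468,1,[(1,0,26),(1,0,25)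],[]),(306942,12,306946,33,[(0,10,15808),(2,0,17)],[(0,1,15808),(2,0,23)]),(306942,10,20475,1,[(1,0,28),(1,0,23)],[]),(306940,8,306948,0,[],[]),(306948,10,21334,75,[(2,0,11),(1,0,30)],[(0,8,16482)]),(306941,1,306948,33,[(2,0,14)],[(0,1,16514),(2,0,31)]),(16537,11,306949,0,[],[]),(306948,4,306950,0,[],[]),(306950,1,26559,27,[(1,0,15),(1,0,32),(1,0,34)],[(0,1,16537),(0,4,20560)]),(306949,1,306951,0,[],[]),(306951,11,20560,34,[(1,0,33),(1,0,36)],[(0,1,16537)]),(306944,11,21979,34,[(2,0,19),(1,0,20)],[(0,1,17022)]),(23826,8,306952,0,[],[]),(306952,10,23825,75,[(0,10,18390),(1,0,39)],[(0,8,18390)]),(23863,4,306952,57,[(0,10,18416)],[(0,4,18416),(2,0,40)]),(32293,1,306953,0,[],[]),(306953,0,30664,14,[(0,1,19537),(0,0,25151),(1,0,42)],[(0,0,19537),(0,1,23807)]),(26445,0,306954,0,[],[]),(306954,11,26442,24,[(0,11,20444),(1,0,44)],[(0,0,20444)]),(306945,5,306955,0,[],[]),(306955,1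0,26482,63,[(2,0,27),(1,0,46)],[(0,5,20468)]),(26491,2,306954,43,[(0,11,20472)],[(0,2,20472),(2,0,45)]),(306942,8,306956,0,[],[]),(306956,10,26495,75,[(2,0,29),(1,0,49)],[(0,8,20475)]),(26552,8,306957,0,[],[]),(306957,10,26551,75,[(0,10,20517),(1,0,51)],[(0,8,20517)]),(26559,0,306957,23,[(0,10,20522)],[(0,0,20522),(2,0,52)]),(306950,12,306956,33,[(0,10,20522),(2,0,35)],[(0,1,20522),(2,0,50)]),(306950,10,26495,1,[(1,0,54),(1,0,50)],[]),(306951,4,306958,0,[],[]),(306958,11,26559,58,[(2,0,37),(1,0,56)],[(0,4,20560)]),(306951,6,30785,69,[(2,0,37)],[(0,6,20560),(0,11,23863)]),(306944,2,306959,0,[],[]),(306959,11,28281,43,[(2,0,38),(1,0,59)],[(0,2,21979)]),(28317,0,306959,24,[(0,11,22006)],[(0,0,22006),(2,0,60)]),(306959,5,306960,0,[],[]),(306960,0,34195,18,[(0,5,22084),(1,0,61),(1,0,62)],[(0,0,22084),(0,5,26634)]),(306953,10,30662,23,[(0,10,23768),(2,0,43)],[(0,0,23768)]),(307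46,8,306961,0,[],[]),(306961,10,30745,75,[(0,10,23824),(1,0,65)],[(0,8,23824)]),(30785,4,306962,0,[],[]),(306962,11,306952,58,[(0,11,23863),(1,0,67)],[(1,0,41)]),(26442,1,306963,0,[],[]),(34057,1,306964,0,[],[]),(34039,1,306965,0,[],[]),(306965,8,306963,31,[(0,8,26442),(1,0,71)],[(1,0,69)]),(306954,1,306966,0,[],[]),(306966,11,306963,34,[(2,0,45),(1,0,73)],[(1,0,69)]),(34084,0,306967,0,[],[]),(306967,10,34082,23,[(0,10,26455),(1,0,75)],[(0,0,26455)]),(306955,8,306968,0,[],[]),(306968,10,34118,75,[(2,0,47),(1,0,77)],[(0,8,26482)]),(34127,2,306969,0,[],[]),(306969,11,34125,43,[(0,11,26489),(1,0,79)],[(0,2,26489)]),(306966,2,306970,0,[],[]),(306970,1,306969,25,[(1,0,48),(1,0,73),(1,0,81)],[(0,1,26491),(1,0,79)]),(306950,0,39249,23,[(2,0,55)],[(0,0,26495),(0,10,34130)]),(306967,1,46943,14,[(0,1,26504),(1,0,75)],[(0,0,26504),(0,1,29049),(0,0,37050)]),(34183,1,306968,33,[(0,10,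26535)],[(0,1,26535),(2,0,78)]),(306960,12,306969,24,[(0,11,26546),(2,0,63)],[(0,0,26546),(2,0,80)]),(306960,1,306970,1,[(1,0,86),(2,0,82)],[]),(306957,2,306961,42,[(2,0,52)],[(0,2,26551),(2,0,66)]),(306970,12,306957,14,[(2,0,35),(1,0,83),(0,1,39249),(2,0,63),(1,0,87)],[(1,0,53)]),(306966,12,306961,1,[(1,0,81),(1,0,89),(1,0,88)],[]),(306961,11,306963,1,[(2,0,90),(1,0,74)],[]),(306958,6,306971,0,[],[]),(306971,11,34183,69,[(2,0,57),(1,0,92)],[(0,6,26559)]),(39212,0,306972,0,[],[]),(39232,0,306973,0,[],[]),(306973,10,39230,23,[(0,10,30622),(1,0,95)],[(0,0,30622)]),(49793,2,306974,0,[],[]),(306974,1,49854,25,[(0,2,30662),(0,1,39230),(1,0,97)],[(0,1,30662),(0,2,39285)]),(306953,2,306973,42,[(2,0,64)],[(0,2,30662),(2,0,96)]),(306962,12,306965,76,[(0,11,30746),(1,0,39),(2,0,68)],[(1,0,65),(1,0,91),(2,0,72)]),(306962,1,34039,1,[(1,0,100),(2,0,71)],[]),(306971,4,306975,0,[],[]),(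306975,6,306962,53,[(2,0,58),(1,0,56),(1,0,92),(1,0,102)],[(1,0,67)]),(306964,0,306976,0,[],[]),(306976,1,41147,14,[(0,1,32264),(0,0,26435),(1,0,70),(1,0,104)],[(0,0,32264)]),(306976,2,306977,0,[],[]),(306977,1,306973,25,[(0,2,32293),(2,0,105),(1,0,106)],[(1,0,42),(1,0,99)]),(43524,0,306978,0,[],[]),(306978,10,43522,23,[(0,10,34032),(1,0,108)],[(0,0,34032)]),(43522,1,306975,29,[(0,6,34039)],[(2,0,101),(2,0,103)]),(306967,2,306978,42,[(2,0,76)],[(0,2,34082),(2,0,109)]),(306973,11,306968,79,[(0,11,34118),(0,10,43584),(0,11,49795),(2,0,96)],[(2,0,78)]),(306971,10,306979,0,[],[]),(306971,12,306977,34,[(2,0,93)],[(1,0,85),(2,0,112),(2,0,107)]),(306971,1,306973,1,[(1,0,114),(1,0,107)],[]),(306972,1,306980,0,[],[]),(306979,12,49793,33,[(2,0,96),(2,0,115),(1,0,113)],[(0,1,39230)]),(49793,10,306971,1,[(2,0,117),(2,0,113)],[]),(49793,4,306981,0,[],[]),(306975,10,306982,0,[],[]),(30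6978,1,306982,33,[(2,0,109)],[(1,0,110),(1,0,120)]),(306980,0,306983,0,[],[]),(306983,1,58887,14,[(0,1,46910),(1,0,94),(1,0,116),(1,0,122)],[(0,0,46910)]),(306983,2,306982,25,[(0,2,46943),(2,0,123)],[(2,0,84),(1,0,111),(1,0,121)]),(306981,2,306984,0,[],[]),(306984,4,306974,36,[(1,0,119),(1,0,125)],[(1,0,97)]),(306982,12,306981,57,[(1,0,118),(1,0,102),(1,0,120)],[(1,0,119)]),(306983,12,306984,1,[(1,0,124),(1,0,127),(1,0,125)],[]),(306983,4,306974,1,[(1,0,128),(1,0,126)],[]),(62597,1,73104,27,[(0,4,49854)],[(2,0,98),(2,0,129),(1,0,123),(0,4,58887)]),(62597,1,73104,1,[(1,0,130)],[])])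

def patch4 : Patch := ([(21284,8),(26434,8),(34169,8),(27458,8),(306939,6),(34031,8),(34052,8),(306937,5),(306943,8),(34141,2),(43676,8),(43517,8),(306942,5),(306948,8),(306948,4),(43645,2),(55320,8),(306950,8),(306949,4),(52050,0),(306946,1)], [(21284,8,306936,0,[],[]),(306936,10,21282,75,[(0,10,16448),(1,0,0)],[(0,8,16448)]),(21287,6,306936,68,[(0,10,16449)],[(0,6,16449),(2,0,1)]),(26434,8,306937,0,[],[]),(306937,10,26432,75,[(0,10,20440),(1,0,3)],[(0,8,20440)]),(34169,8,306938,0,[],[]),(27458,8,306939,0,[],[]),(306939,10,27456,75,[(0,10,21281),(1,0,6)],[(0,8,21281)]),(306936,4,306939,57,[(2,0,1)],[(0,4,21282),(2,0,7)]),(306939,6,306940,0,[],[]),(306940,4,34034,53,[(1,0,2),(1,0,8),(1,0,9)],[(0,4,21287),(0,6,26426)]),(34031,8,306941,0,[],[]),(306941,10,34029,75,[(0,10,26420),(1,0,11)],[(0,8,26420)]),(306940,12,306941,57,[(0,10,26421),(2,0,10)],[(0,4,26421),(2,0,12)]),(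306940,8,34031,1,[(1,0,13),(2,0,11)],[]),(306940,10,34029,1,[(1,0,13),(1,0,12)],[]),(34052,8,306942,0,[],[]),(306942,10,34050,75,[(0,10,26431),(1,0,16)],[(0,8,26431)]),(306937,5,306943,0,[],[]),(306943,10,34053,63,[(2,0,4),(1,0,18)],[(0,5,26432)]),(306943,8,306944,0,[],[]),(306944,5,306940,61,[(1,0,3),(1,0,18),(1,0,20)],[(0,5,26434),(2,0,14)]),(34059,4,306943,57,[(0,10,26435)],[(0,4,26435),(2,0,19)]),(34141,2,306945,0,[],[]),(306945,12,306938,40,[(0,8,26528),(1,0,23)],[(0,2,26528),(1,0,5)]),(306938,2,34141,1,[(2,0,24),(2,0,23)],[]),(43676,8,306946,0,[],[]),(43517,8,306947,0,[],[]),(306947,10,43515,75,[(0,10,34028),(1,0,27)],[(0,8,34028)]),(306944,10,43518,63,[(2,0,15),(2,0,21)],[(0,5,34029)]),(43524,4,306944,57,[(0,10,34032)],[(0,4,34032),(2,0,29)]),(306942,5,306948,0,[],[]),(306948,10,43544,63,[(2,0,17),(1,0,31)],[(0,5,34050)]),(306948,8,306949,0,[],[]),(306949,5,306947,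61,[(1,0,16),(1,0,31),(1,0,33)],[(0,5,34052),(1,0,27)]),(306943,1,306948,33,[(2,0,19)],[(0,1,34053),(2,0,32)]),(306948,4,306950,0,[],[]),(306950,1,49934,27,[(1,0,22),(1,0,35),(1,0,36)],[(0,1,34059),(0,4,39353)]),(43645,2,306951,0,[],[]),(306951,4,306938,36,[(0,4,34141),(1,0,38)],[(2,0,25)]),(306951,12,306946,55,[(1,0,5),(2,0,39)],[(0,4,34169),(1,0,26)]),(306946,2,43645,1,[(2,0,40),(2,0,38)],[]),(55320,8,306952,0,[],[]),(306950,8,306953,0,[],[]),(306949,10,55141,63,[(2,0,28),(2,0,34)],[(0,5,43515)]),(306944,1,306949,33,[(2,0,29)],[(0,1,43518),(2,0,44)]),(306949,4,306954,0,[],[]),(306954,1,62651,27,[(1,0,30),(1,0,45),(1,0,46)],[(0,1,43524),(0,4,49900)]),(52050,0,306955,0,[],[]),(306946,1,306956,0,[],[]),(306956,2,306954,25,[(2,0,41),(1,0,49)],[(0,1,43645),(0,2,49901),(2,0,47)]),(306956,12,306952,31,[(1,0,26),(1,0,49)],[(0,1,43676),(1,0,42)]),(306952,2,306954,1,[(2,0,51),(1,0,50)],[]),(58897,0,306954,14,[(0,1,46920)],[(0,0,46920),(0,1,58900),(0,0,73121),(2,0,47)]),(306954,12,306953,31,[(0,8,49934),(2,0,47)],[(2,0,37),(1,0,43)]),(306953,0,58897,1,[(2,0,54),(2,0,53)],[]),(306953,2,306952,1,[(2,0,54),(2,0,52)],[]),(306952,12,306955,15,[(0,2,52050),(2,0,55),(1,0,56)],[(1,0,48)]),(306952,0,52050,1,[(1,0,57),(2,0,48)],[]),(65160,0,55320,21,[(0,8,52050)],[(2,0,58),(2,0,42)]),(55320,0,65160,1,[(2,0,59)],[])])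

def patch5 : Patch := ([(57826,5),(52035,0),(306937,1)], [(57826,5,306936,0,[],[]),(306936,0,57931,18,[(0,5,36293),(0,0,45978),(1,0,0)],[(0,0,36293),(0,5,46074)]),(52035,0,306937,0,[],[]),(306937,1,306938,0,[],[]),(306938,0,65151,14,[(0,1,41130),(1,0,2),(1,0,3)],[(0,0,41130),(0,1,52028)]),(306937,5,55451,18,[(0,5,43785),(0,0,55320),(0,5,65160),(1,0,2)],[(0,0,43785)]),(57931,12,306938,28,[(0,5,46074)],[(0,1,46074),(2,0,5),(1,0,3)]),(65151,12,306936,1,[(2,0,4),(2,0,6),(2,0,1)],[]),(65151,5,57826,1,[(1,0,7),(2,0,0)],[]),(57826,5,65151,1,[(2,0,8)],[])])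

def w0 : List ℕ := [0,0]

def w1 : List ℕ := [1,1]

def w2 : List ℕ := [2,2]

def w3 : List ℕ := [3,3]

def w4 : List ℕ := [4,4]

def w5 : List ℕ := [5,5]

def w6 : List ℕ := [6,6]

def w7 : List ℕ := [7,7]

def w8 : List ℕ := [8,8]

def w9 : List ℕ := [9,9]

def w10 : List ℕ := [10,10]

def w11 : List ℕ := [11,11]

def w12 : List ℕ := [1,0,1,0,1,0]

def w13 : List ℕ := [2,0,2,0]

def w14 : List ℕ := [3,0,3,0]

def w15 : List ℕ := [4,0,4,0]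

def w16 : List ℕ := [5,0,5,0,5,0]

def w17 : List ℕ := [6,0,6,0]

def w18 : List ℕ := [7,0,7,0]

def w19 : List ℕ := [8,0,8,0]

def w20 : List ℕ := [9,0,9,0]

def w21 : List ℕ := [10,0,10,0]

def w22 : List ℕ := [11,0,11,0]

def w23 : List ℕ := [2,1,2,1,2,1]

def w24 : List ℕ := [3,1,3,1]

def w25 : List ℕ := [4,1,4,1,4,1]

def w26 : List ℕ := [5,1,5,1]

def w27 : List ℕ := [6,1,6,1]

def w28 : List ℕ := [7,1,7,1]

def w29 : List ℕ := [8,1,8,1]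

def w30 : List ℕ := [9,1,9,1]

def w31 : List ℕ := [10,1,10,1]

def w32 : List ℕ := [11,1,11,1]

def w33 : List ℕ := [3,2,3,2,3,2]

def w34 : List ℕ := [4,2,4,2]

def w35 : List ℕ := [5,2,5,2]

def w36 : List ℕ := [6,2,6,2]

def w37 : List ℕ := [7,2,7,2]

def w38 : List ℕ := [8,2,8,2]

def w39 : List ℕ := [9,2,9,2]

def w40 : List ℕ := [10,2,10,2]

def w41 : List ℕ := [11,2,11,2]

def w42 : List ℕ := [4,3,4,3]

def w43 : List ℕ := [5,3,5,3]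

def w44 : List ℕ := [6,3,6,3]

def w45 : List ℕ := [7,3,7,3,7,3]

def w46 : List ℕ := [8,3,8,3]

def w47 : List ℕ := [9,3,9,3]

def w48 : List ℕ := [10,3,10,3]

def w49 : List ℕ := [11,3,11,3]

def w50 : List ℕ := [5,4,5,4]

def w51 : List ℕ := [6,4,6,4,6,4]

def w52 : List ℕ := [7,4,7,4]

def w53 : List ℕ := [8,4,8,4]

def w54 : List ℕ := [9,4,9,4]

def w55 : List ℕ := [10,4,10,4]

def w56 : List ℕ := [11,4,11,4]

def w57 : List ℕ := [6,5,6,5]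

def w58 : List ℕ := [7,5,7,5]

def w59 : List ℕ := [8,5,8,5,8,5]

def w60 : List ℕ := [9,5,9,5]

def w61 : List ℕ := [10,5,10,5]

def w62 : List ℕ := [11,5,11,5]

def w63 : List ℕ := [7,6,7,6]

def w64 : List ℕ := [8,6,8,6]

def w65 : List ℕ := [9,6,9,6]

def w66 : List ℕ := [10,6,10,6]

def w67 : List ℕ := [11,6,11,6]

def w68 : List ℕ := [8,7,8,7]

def w69 : List ℕ := [9,7,9,7,9,7]

def w70 : List ℕ := [10,7,10,7]

def w71 : List ℕ := [11,7,11,7]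

def w72 : List ℕ := [9,8,9,8]

def w73 : List ℕ := [10,8,10,8]

def w74 : List ℕ := [11,8,11,8,11,8]

def w75 : List ℕ := [10,9,10,9]

def w76 : List ℕ := [11,9,11,9]

def w77 : List ℕ := [11,10,11,10,11,10]

def w78 : List ℕ := [8,5,0,1,2,3,4,8,5,0,1,2,3,4,8,5,0,1,2,3,4,8,5,0,1,2,3,4,8,5,0,1,2,3,4,8,5,0,1,2,3,4,8,5,0,1,2,3,4,8,5,0,1,2,3,4,8,5,0,1,2,3,4,10]

def w79 : List ℕ := [6,4,1,9,7,3,2,1,10,11,8,5,0,1,6,4,1,9,7,3,2,1,10,11,8,5,0,1,6,4,1,9,7,3,2,1,10,11,8,5,0,1,6,4,1,9,7,3,2,1,10,11,8,5,0,1,6,4,1,9,7,3,2,1,10,11,8,5,0,1,6,4,1,9,7,3,2,1,10,11,8,5,0,1,6,4,1,9,7,3,2,1,10,11,8,5,0,1,6,4,1,9,7,3,2,1,10,11,8,5,0,1,6,4,1,9,7,3,2,1,10,11,8,5,0,1,6,4,1,9,7,3,2,1,10,11,8,5,0,1,6,4,1,9,7,3,2,1,10,11,8,5,0,1,6,4,1,9,7,3,2,1,10,11,8,5,0,1,6,4,1,9,7,3,2,1,10,11,8,5,0,1,6,4,1,9,7,3,2,1,10,11,8,5,0,1,6,4,1,9,7,3,2,1,10,11,8,5,0,1,6,4,1,9,7,3,2,1,10,11,8,5,0,1,6,4,1,9,7,3,2,1,10,11,8,5,0,1]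

def w80 : List ℕ := [0]

def w81 : List ℕ := [1]

def w82 : List ℕ := [2]

def w83 : List ℕ := [3]

def w84 : List ℕ := [4]

def w85 : List ℕ := [5]

def w86 : List ℕ := [6]

def w87 : List ℕ := [7]

def w88 : List ℕ := [8]

def w89 : List ℕ := [9]

def w90 : List ℕ := [10]

noncomputable def wN0 (k : ℕ) : List ℕ := Bool.rec (motive := fun _ => List ℕ) w0 w1 (Nat.ble 1 k)

noncomputable def wN1 (k : ℕ) : List ℕ := Bool.rec (motive := fun _ => List ℕ) w3 w4 (Nat.ble 4 k)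

noncomputable def wN2 (k : ℕ) : List ℕ := Bool.rec (motive := fun _ => List ℕ) w2 (wN1 k) (Nat.ble 3 k)

noncomputable def wN3 (k : ℕ) : List ℕ := Bool.rec (motive := fun _ => List ℕ) (wN0 k) (wN2 k) (Nat.ble 2 k)

noncomputable def wN4 (k : ℕ) : List ℕ := Bool.rec (motive := fun _ => List ℕ) w6 w7 (Nat.ble 7 k)

noncomputable def wN5 (k : ℕ) : List ℕ := Bool.rec (motive := fun _ => List ℕ) w5 (wN4 k) (Nat.ble 6 k)

noncomputable def wN6 (k : ℕ) : List ℕ := Bool.rec (motive := fun _ => List ℕ) w9 w10 (Nat.ble 10 k)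

noncomputable def wN7 (k : ℕ) : List ℕ := Bool.rec (motive := fun _ => List ℕ) w8 (wN6 k) (Nat.ble 9 k)

noncomputable def wN8 (k : ℕ) : List ℕ := Bool.rec (motive := fun _ => List ℕ) (wN5 k) (wN7 k) (Nat.ble 8 k)

noncomputable def wN9 (k : ℕ) : List ℕ := Bool.rec (motive := fun _ => List ℕ) (wN3 k) (wN8 k) (Nat.ble 5 k)

noncomputable def wN10 (k : ℕ) : List ℕ := Bool.rec (motive := fun _ => List ℕ) w11 w12 (Nat.ble 12 k)

noncomputable def wN11 (k : ℕ) : List ℕ := Bool.rec (motive := fun _ => List ℕ) w14 w15 (Nat.ble 15 k)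

noncomputable def wN12 (k : ℕ) : List ℕ := Bool.rec (motive := fun _ => List ℕ) w13 (wN11 k) (Nat.ble 14 k)

noncomputable def wN13 (k : ℕ) : List ℕ := Bool.rec (motive := fun _ => List ℕ) (wN10 k) (wN12 k) (Nat.ble 13 k)

noncomputable def wN14 (k : ℕ) : List ℕ := Bool.rec (motive := fun _ => List ℕ) w17 w18 (Nat.ble 18 k)

noncomputable def wN15 (k : ℕ) : List ℕ := Bool.rec (motive := fun _ => List ℕ) w16 (wN14 k) (Nat.ble 17 k)

noncomputable def wN16 (k : ℕ) : List ℕ := Bool.rec (motive := fun _ => List ℕ) w20 w21 (Nat.ble 21 k)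

noncomputable def wN17 (k : ℕ) : List ℕ := Bool.rec (motive := fun _ => List ℕ) w19 (wN16 k) (Nat.ble 20 k)

noncomputable def wN18 (k : ℕ) : List ℕ := Bool.rec (motive := fun _ => List ℕ) (wN15 k) (wN17 k) (Nat.ble 19 k)

noncomputable def wN19 (k : ℕ) : List ℕ := Bool.rec (motive := fun _ => List ℕ) (wN13 k) (wN18 k) (Nat.ble 16 k)

noncomputable def wN20 (k : ℕ) : List ℕ := Bool.rec (motive := fun _ => List ℕ) (wN9 k) (wN19 k) (Nat.ble 11 k)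

noncomputable def wN21 (k : ℕ) : List ℕ := Bool.rec (motive := fun _ => List ℕ) w22 w23 (Nat.ble 23 k)

noncomputable def wN22 (k : ℕ) : List ℕ := Bool.rec (motive := fun _ => List ℕ) w25 w26 (Nat.ble 26 k)

noncomputable def wN23 (k : ℕ) : List ℕ := Bool.rec (motive := fun _ => List ℕ) w24 (wN22 k) (Nat.ble 25 k)

noncomputable def wN24 (k : ℕ) : List ℕ := Bool.rec (motive := fun _ => List ℕ) (wN21 k) (wN23 k) (Nat.ble 24 k)

noncomputable def wN25 (k : ℕ) : List ℕ := Bool.rec (motive := fun _ => List ℕ) w28 w29 (Nat.ble 29 k)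

noncomputable def wN26 (k : ℕ) : List ℕ := Bool.rec (motive := fun _ => List ℕ) w27 (wN25 k) (Nat.ble 28 k)

noncomputable def wN27 (k : ℕ) : List ℕ := Bool.rec (motive := fun _ => List ℕ) w31 w32 (Nat.ble 32 k)

noncomputable def wN28 (k : ℕ) : List ℕ := Bool.rec (motive := fun _ => List ℕ) w30 (wN27 k) (Nat.ble 31 k)

noncomputable def wN29 (k : ℕ) : List ℕ := Bool.rec (motive := fun _ => List ℕ) (wN26 k) (wN28 k) (Nat.ble 30 k)

noncomputable def wN30 (k : ℕ) : List ℕ := Bool.rec (motive := fun _ => List ℕ) (wN24 k) (wN29 k) (Nat.ble 27 k)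

noncomputable def wN31 (k : ℕ) : List ℕ := Bool.rec (motive := fun _ => List ℕ) w34 w35 (Nat.ble 35 k)

noncomputable def wN32 (k : ℕ) : List ℕ := Bool.rec (motive := fun _ => List ℕ) w33 (wN31 k) (Nat.ble 34 k)

noncomputable def wN33 (k : ℕ) : List ℕ := Bool.rec (motive := fun _ => List ℕ) w37 w38 (Nat.ble 38 k)

noncomputable def wN34 (k : ℕ) : List ℕ := Bool.rec (motive := fun _ => List ℕ) w36 (wN33 k) (Nat.ble 37 k)

noncomputable def wN35 (k : ℕ) : List ℕ := Bool.rec (motive := fun _ => List ℕ) (wN32 k) (wN34 k) (Nat.ble 36 k)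

noncomputable def wN36 (k : ℕ) : List ℕ := Bool.rec (motive := fun _ => List ℕ) w40 w41 (Nat.ble 41 k)

noncomputable def wN37 (k : ℕ) : List ℕ := Bool.rec (motive := fun _ => List ℕ) w39 (wN36 k) (Nat.ble 40 k)

noncomputable def wN38 (k : ℕ) : List ℕ := Bool.rec (motive := fun _ => List ℕ) w43 w44 (Nat.ble 44 k)

noncomputable def wN39 (k : ℕ) : List ℕ := Bool.rec (motive := fun _ => List ℕ) w42 (wN38 k) (Nat.ble 43 k)

noncomputable def wN40 (k : ℕ) : List ℕ := Bool.rec (motive := fun _ => List ℕ) (wN37 k) (wN39 k) (Nat.ble 42 k)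

noncomputable def wN41 (k : ℕ) : List ℕ := Bool.rec (motive := fun _ => List ℕ) (wN35 k) (wN40 k) (Nat.ble 39 k)

noncomputable def wN42 (k : ℕ) : List ℕ := Bool.rec (motive := fun _ => List ℕ) (wN30 k) (wN41 k) (Nat.ble 33 k)

noncomputable def wN43 (k : ℕ) : List ℕ := Bool.rec (motive := fun _ => List ℕ) (wN20 k) (wN42 k) (Nat.ble 22 k)

noncomputable def wN44 (k : ℕ) : List ℕ := Bool.rec (motive := fun _ => List ℕ) w45 w46 (Nat.ble 46 k)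

noncomputable def wN45 (k : ℕ) : List ℕ := Bool.rec (motive := fun _ => List ℕ) w48 w49 (Nat.ble 49 k)

noncomputable def wN46 (k : ℕ) : List ℕ := Bool.rec (motive := fun _ => List ℕ) w47 (wN45 k) (Nat.ble 48 k)

noncomputable def wN47 (k : ℕ) : List ℕ := Bool.rec (motive := fun _ => List ℕ) (wN44 k) (wN46 k) (Nat.ble 47 k)

noncomputable def wN48 (k : ℕ) : List ℕ := Bool.rec (motive := fun _ => List ℕ) w51 w52 (Nat.ble 52 k)

noncomputable def wN49 (k : ℕ) : List ℕ := Bool.rec (motive := fun _ => List ℕ) w50 (wN48 k) (Nat.ble 51 k)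

noncomputable def wN50 (k : ℕ) : List ℕ := Bool.rec (motive := fun _ => List ℕ) w54 w55 (Nat.ble 55 k)

noncomputable def wN51 (k : ℕ) : List ℕ := Bool.rec (motive := fun _ => List ℕ) w53 (wN50 k) (Nat.ble 54 k)

noncomputable def wN52 (k : ℕ) : List ℕ := Bool.rec (motive := fun _ => List ℕ) (wN49 k) (wN51 k) (Nat.ble 53 k)

noncomputable def wN53 (k : ℕ) : List ℕ := Bool.rec (motive := fun _ => List ℕ) (wN47 k) (wN52 k) (Nat.ble 50 k)

noncomputable def wN54 (k : ℕ) : List ℕ := Bool.rec (motive := fun _ => List ℕ) w57 w58 (Nat.ble 58 k)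

noncomputable def wN55 (k : ℕ) : List ℕ := Bool.rec (motive := fun _ => List ℕ) w56 (wN54 k) (Nat.ble 57 k)

noncomputable def wN56 (k : ℕ) : List ℕ := Bool.rec (motive := fun _ => List ℕ) w60 w61 (Nat.ble 61 k)

noncomputable def wN57 (k : ℕ) : List ℕ := Bool.rec (motive := fun _ => List ℕ) w59 (wN56 k) (Nat.ble 60 k)

noncomputable def wN58 (k : ℕ) : List ℕ := Bool.rec (motive := fun _ => List ℕ) (wN55 k) (wN57 k) (Nat.ble 59 k)

noncomputable def wN59 (k : ℕ) : List ℕ := Bool.rec (motive := fun _ => List ℕ) w63 w64 (Nat.ble 64 k)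

noncomputable def wN60 (k : ℕ) : List ℕ := Bool.rec (motive := fun _ => List ℕ) w62 (wN59 k) (Nat.ble 63 k)

noncomputable def wN61 (k : ℕ) : List ℕ := Bool.rec (motive := fun _ => List ℕ) w66 w67 (Nat.ble 67 k)

noncomputable def wN62 (k : ℕ) : List ℕ := Bool.rec (motive := fun _ => List ℕ) w65 (wN61 k) (Nat.ble 66 k)

noncomputable def wN63 (k : ℕ) : List ℕ := Bool.rec (motive := fun _ => List ℕ) (wN60 k) (wN62 k) (Nat.ble 65 k)

noncomputable def wN64 (k : ℕ) : List ℕ := Bool.rec (motive := fun _ => List ℕ) (wN58 k) (wN63 k) (Nat.ble 62 k)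

noncomputable def wN65 (k : ℕ) : List ℕ := Bool.rec (motive := fun _ => List ℕ) (wN53 k) (wN64 k) (Nat.ble 56 k)

noncomputable def wN66 (k : ℕ) : List ℕ := Bool.rec (motive := fun _ => List ℕ) w68 w69 (Nat.ble 69 k)

noncomputable def wN67 (k : ℕ) : List ℕ := Bool.rec (motive := fun _ => List ℕ) w71 w72 (Nat.ble 72 k)

noncomputable def wN68 (k : ℕ) : List ℕ := Bool.rec (motive := fun _ => List ℕ) w70 (wN67 k) (Nat.ble 71 k)

noncomputable def wN69 (k : ℕ) : List ℕ := Bool.rec (motive := fun _ => List ℕ) (wN66 k) (wN68 k) (Nat.ble 70 k)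

noncomputable def wN70 (k : ℕ) : List ℕ := Bool.rec (motive := fun _ => List ℕ) w74 w75 (Nat.ble 75 k)

noncomputable def wN71 (k : ℕ) : List ℕ := Bool.rec (motive := fun _ => List ℕ) w73 (wN70 k) (Nat.ble 74 k)

noncomputable def wN72 (k : ℕ) : List ℕ := Bool.rec (motive := fun _ => List ℕ) w77 w78 (Nat.ble 78 k)

noncomputable def wN73 (k : ℕ) : List ℕ := Bool.rec (motive := fun _ => List ℕ) w76 (wN72 k) (Nat.ble 77 k)

noncomputable def wN74 (k : ℕ) : List ℕ := Bool.rec (motive := fun _ => List ℕ) (wN71 k) (wN73 k) (Nat.ble 76 k)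

noncomputable def wN75 (k : ℕ) : List ℕ := Bool.rec (motive := fun _ => List ℕ) (wN69 k) (wN74 k) (Nat.ble 73 k)

noncomputable def wN76 (k : ℕ) : List ℕ := Bool.rec (motive := fun _ => List ℕ) w80 w81 (Nat.ble 81 k)

noncomputable def wN77 (k : ℕ) : List ℕ := Bool.rec (motive := fun _ => List ℕ) w79 (wN76 k) (Nat.ble 80 k)

noncomputable def wN78 (k : ℕ) : List ℕ := Bool.rec (motive := fun _ => List ℕ) w83 w84 (Nat.ble 84 k)

noncomputable def wN79 (k : ℕ) : List ℕ := Bool.rec (motive := fun _ => List ℕ) w82 (wN78 k) (Nat.ble 83 k)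

noncomputable def wN80 (k : ℕ) : List ℕ := Bool.rec (motive := fun _ => List ℕ) (wN77 k) (wN79 k) (Nat.ble 82 k)

noncomputable def wN81 (k : ℕ) : List ℕ := Bool.rec (motive := fun _ => List ℕ) w86 w87 (Nat.ble 87 k)

noncomputable def wN82 (k : ℕ) : List ℕ := Bool.rec (motive := fun _ => List ℕ) w85 (wN81 k) (Nat.ble 86 k)

noncomputable def wN83 (k : ℕ) : List ℕ := Bool.rec (motive := fun _ => List ℕ) w89 w90 (Nat.ble 90 k)

noncomputable def wN84 (k : ℕ) : List ℕ := Bool.rec (motive := fun _ => List ℕ) w88 (wN83 k) (Nat.ble 89 k)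

noncomputable def wN85 (k : ℕ) : List ℕ := Bool.rec (motive := fun _ => List ℕ) (wN82 k) (wN84 k) (Nat.ble 88 k)

noncomputable def wN86 (k : ℕ) : List ℕ := Bool.rec (motive := fun _ => List ℕ) (wN80 k) (wN85 k) (Nat.ble 85 k)

noncomputable def wN87 (k : ℕ) : List ℕ := Bool.rec (motive := fun _ => List ℕ) (wN75 k) (wN86 k) (Nat.ble 79 k)

noncomputable def wN88 (k : ℕ) : List ℕ := Bool.rec (motive := fun _ => List ℕ) (wN65 k) (wN87 k) (Nat.ble 68 k)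

noncomputable def wN89 (k : ℕ) : List ℕ := Bool.rec (motive := fun _ => List ℕ) (wN43 k) (wN88 k) (Nat.ble 45 k)

/-- the words by number -/
noncomputable def wsel (k : ℕ) : List ℕ := wN89 k

def words : List (List ℕ) := [
  [0,0],
  [1,1],
  [2,2],
  [3,3],
  [4,4],
  [5,5],
  [6,6],
  [7,7],
  [8,8],
  [9,9],
  [10,10],
  [11,11],
  [1,0,1,0,1,0],
  [2,0,2,0],
  [3,0,3,0],
  [4,0,4,0],
  [5,0,5,0,5,0],
  [6,0,6,0],
  [7,0,7,0],
  [8,0,8,0],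
  [9,0,9,0],
  [10,0,10,0],
  [11,0,11,0],
  [2,1,2,1,2,1],
  [3,1,3,1],
  [4,1,4,1,4,1],
  [5,1,5,1],
  [6,1,6,1],
  [7,1,7,1],
  [8,1,8,1],
  [9,1,9,1],
  [10,1,10,1],
  [11,1,11,1],
  [3,2,3,2,3,2],
  [4,2,4,2],
  [5,2,5,2],
  [6,2,6,2],
  [7,2,7,2],
  [8,2,8,2],
  [9,2,9,2],
  [10,2,10,2],
  [11,2,11,2],
  [4,3,4,3],
  [5,3,5,3],
  [6,3,6,3],
  [7,3,7,3,7,3],
  [8,3,8,3],
  [9,3,9,3],
  [10,3,10,3],
  [11,3,11,3],
  [5,4,5,4],
  [6,4,6,4,6,4],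
  [7,4,7,4],
  [8,4,8,4],
  [9,4,9,4],
  [10,4,10,4],
  [11,4,11,4],
  [6,5,6,5],
  [7,5,7,5],
  [8,5,8,5,8,5],
  [9,5,9,5],
  [10,5,10,5],
  [11,5,11,5],
  [7,6,7,6],
  [8,6,8,6],
  [9,6,9,6],
  [10,6,10,6],
  [11,6,11,6],
  [8,7,8,7],
  [9,7,9,7,9,7],
  [10,7,10,7],
  [11,7,11,7],
  [9,8,9,8],
  [10,8,10,8],
  [11,8,11,8,11,8],
  [10,9,10,9],
  [11,9,11,9],
  [11,10,11,10,11,10],
  [8,5,0,1,2,3,4,8,5,0,1,2,3,4,8,5,0,1,2,3,4,8,5,0,1,2,3,4,8,5,0,1,2,3,4,8,5,0,1,2,3,4,8,5,0,1,2,3,4,8,5,0,1,2,3,4,8,5,0,1,2,3,4,10],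
  [6,4,1,9,7,3,2,1,10,11,8,5,0,1,6,4,1,9,7,3,2,1,10,11,8,5,0,1,6,4,1,9,7,3,2,1,10,11,8,5,0,1,6,4,1,9,7,3,2,1,10,11,8,5,0,1,6,4,1,9,7,3,2,1,10,11,8,5,0,1,6,4,1,9,7,3,2,1,10,11,8,5,0,1,6,4,1,9,7,3,2,1,10,11,8,5,0,1,6,4,1,9,7,3,2,1,10,11,8,5,0,1,6,4,1,9,7,3,2,1,10,11,8,5,0,1,6,4,1,9,7,3,2,1,10,11,8,5,0,1,6,4,1,9,7,3,2,1,10,11,8,5,0,1,6,4,1,9,7,3,2,1,10,11,8,5,0,1,6,4,1,9,7,3,2,1,10,11,8,5,0,1,6,4,1,9,7,3,2,1,10,11,8,5,0,1,6,4,1,9,7,3,2,1,10,11,8,5,0,1,6,4,1,9,7,3,2,1,10,11,8,5,0,1,6,4,1,9,7,3,2,1,10,11,8,5,0,1],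
  [0],
  [1],
  [2],
  [3],
  [4],
  [5],
  [6],
  [7],
  [8],
  [9],
  [10]]

/-- the table -/
noncomputable def data : Data := Big.mkData 306936 12 raChunk rbChunk words 80 [patch0, patch1, patch2, patch3, patch4, patch5]

end

end H47.Fi24.Tab
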