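import Cfsg.Agent.H47.Fi24.Tab.RelDef

/-!
Checks of the relators (generated).
-/

set_option autoImplicit false
set_option maxRecDepth 100000
set_option linter.all false
set_option Elab.async false

namespace H47.Fi24.Tab

open H93.Coset

theorem rel0 : allRange 0 600 nodeRel = true := by decide +kernel

theorem pz0 : data.powOK [6,4,1,9,7,3,2,1,10,11,8,5,0,1] 17 pwZ 0 600 = true := by decide +kernel

theorem pe0 : Big.powEndOK data [8,5,0,1,2,3,4] 9 10 pwE 0 600 = true := by decide +kernel

theorem rel1 : allRange 600 600 nodeRel = true := by decide +kernel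

theorem pz1 : data.powOK [6,4,1,9,7,3,2,1,10,11,8,5,0,1] 17 pwZ 600 600 = true := by decide +kernel

theorem pe1 : Big.powEndOK data [8,5,0,1,2,3,4] 9 10 pwE 600 600 = true := by decide +kernel

theorem rel2 : allRange 1200 600 nodeRel = true := by decide +kernel

theorem pz2 : data.powOK [6,4,1,9,7,3,2,1,10,11,8,5,0,1] 17 pwZ 1200 600 = true := by decide +kernel

theorem pe2 : Big.powEndOK data [8,5,0,1,2,3,4] 9 10 pwE 1200 600 = true := by decide +kernel

theorem rel3 : allRange 1800 600 nodeRel = true := by decide +kernel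

theorem pz3 : data.powOK [6,4,1,9,7,3,2,1,10,11,8,5,0,1] 17 pwZ 1800 600 = true := by decide +kernel

theorem pe3 : Big.powEndOK data [8,5,0,1,2,3,4] 9 10 pwE 1800 600 = true := by decide +kernel

theorem rel4 : allRange 2400 600 nodeRel = true := by decide +kernel

theorem pz4 : data.powOK [6,4,1,9,7,3,2,1,10,11,8,5,0,1] 17 pwZ 2400 600 = true := by decide +kernel

theorem pe4 : Big.powEndOK data [8,5,0,1,2,3,4] 9 10 pwE 2400 600 = true := by decide +kernel

theorem rel5 : allRange 3000 600 nodeRel = true := by decide +kernel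

theorem pz5 : data.powOK [6,4,1,9,7,3,2,1,10,11,8,5,0,1] 17 pwZ 3000 600 = true := by decide +kernel

theorem pe5 : Big.powEndOK data [8,5,0,1,2,3,4] 9 10 pwE 3000 600 = true := by decide +kernel

theorem rel6 : allRange 3600 600 nodeRel = true := by decide +kernel

theorem pz6 : data.powOK [6,4,1,9,7,3,2,1,10,11,8,5,0,1] 17 pwZ 3600 600 = true := by decide +kernel

theorem pe6 : Big.powEndOK data [8,5,0,1,2,3,4] 9 10 pwE 3600 600 = true := by decide +kernel

theorem rel7 : allRange 4200 600 nodeRel = true := by decide +kernel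

theorem pz7 : data.powOK [6,4,1,9,7,3,2,1,10,11,8,5,0,1] 17 pwZ 4200 600 = true := by decide +kernel

theorem pe7 : Big.powEndOK data [8,5,0,1,2,3,4] 9 10 pwE 4200 600 = true := by decide +kernel

theorem rel8 : allRange 4800 600 nodeRel = true := by decide +kernel

theorem pz8 : data.powOK [6,4,1,9,7,3,2,1,10,11,8,5,0,1] 17 pwZ 4800 600 = true := by decide +kernel

theorem pe8 : Big.powEndOK data [8,5,0,1,2,3,4] 9 10 pwE 4800 600 = true := by decide +kernel

theorem rel9 : allRange 5400 600 nodeRel = true := by decide +kernel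

theorem pz9 : data.powOK [6,4,1,9,7,3,2,1,10,11,8,5,0,1] 17 pwZ 5400 600 = true := by decide +kernel

theorem pe9 : Big.powEndOK data [8,5,0,1,2,3,4] 9 10 pwE 5400 600 = true := by decide +kernel

theorem rel10 : allRange 6000 600 nodeRel = true := by decide +kernel

theorem pz10 : data.powOK [6,4,1,9,7,3,2,1,10,11,8,5,0,1] 17 pwZ 6000 600 = true := by decide +kernel

theorem pe10 : Big.powEndOK data [8,5,0,1,2,3,4] 9 10 pwE 6000 600 = true := by decide +kernel

theorem rel11 : allRange 6600 600 nodeRel = true := by decide +kernel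

theorem pz11 : data.powOK [6,4,1,9,7,3,2,1,10,11,8,5,0,1] 17 pwZ 6600 600 = true := by decide +kernel

theorem pe11 : Big.powEndOK data [8,5,0,1,2,3,4] 9 10 pwE 6600 600 = true := by decide +kernel

theorem rel12 : allRange 7200 600 nodeRel = true := by decide +kernel

theorem pz12 : data.powOK [6,4,1,9,7,3,2,1,10,11,8,5,0,1] 17 pwZ 7200 600 = true := by decide +kernel

theorem pe12 : Big.powEndOK data [8,5,0,1,2,3,4] 9 10 pwE 7200 600 = true := by decide +kernel

theorem rel13 : allRange 7800 600 nodeRel = true := by decide +kernel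

theorem pz13 : data.powOK [6,4,1,9,7,3,2,1,10,11,8,5,0,1] 17 pwZ 7800 600 = true := by decide +kernel

theorem pe13 : Big.powEndOK data [8,5,0,1,2,3,4] 9 10 pwE 7800 600 = true := by decide +kernel

theorem rel14 : allRange 8400 600 nodeRel = true := by decide +kernel

theorem pz14 : data.powOK [6,4,1,9,7,3,2,1,10,11,8,5,0,1] 17 pwZ 8400 600 = true := by decide +kernel

theorem pe14 : Big.powEndOK data [8,5,0,1,2,3,4] 9 10 pwE 8400 600 = true := by decide +kernel

theorem rel15 : allRange 9000 600 nodeRel = true := by decide +kernel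

theorem pz15 : data.powOK [6,4,1,9,7,3,2,1,10,11,8,5,0,1] 17 pwZ 9000 600 = true := by decide +kernel

theorem pe15 : Big.powEndOK data [8,5,0,1,2,3,4] 9 10 pwE 9000 600 = true := by decide +kernel

end H47.Fi24.Tab
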