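import Cfsg.Agent.H47.Fi24.Tab.RelDef

/-!
Checks of the relators (generated).
-/

set_option autoImplicit false
set_option maxRecDepth 100000
set_option linter.all false
set_option Elab.async false

namespace H47.Fi24.Tab

open H93.Coset

theorem rel240 : allRange 144000 600 nodeRel = true := by decide +kernel

theorem pz240 : data.powOK [6,4,1,9,7,3,2,1,10,11,8,5,0,1] 17 pwZ 144000 600 = true := by decide +kernel

theorem pe240 : Big.powEndOK data [8,5,0,1,2,3,4] 9 10 pwE 144000 600 = true := by decide +kernel

theorem rel241 : allRange 144600 600 nodeRel = true := by decide +kernel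

theorem pz241 : data.powOK [6,4,1,9,7,3,2,1,10,11,8,5,0,1] 17 pwZ 144600 600 = true := by decide +kernel

theorem pe241 : Big.powEndOK data [8,5,0,1,2,3,4] 9 10 pwE 144600 600 = true := by decide +kernel

theorem rel242 : allRange 145200 600 nodeRel = true := by decide +kernel

theorem pz242 : data.powOK [6,4,1,9,7,3,2,1,10,11,8,5,0,1] 17 pwZ 145200 600 = true := by decide +kernel

theorem pe242 : Big.powEndOK data [8,5,0,1,2,3,4] 9 10 pwE 145200 600 = true := by decide +kernel

theorem rel243 : allRange 145800 600 nodeRel = true := by decide +kernel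

theorem pz243 : data.powOK [6,4,1,9,7,3,2,1,10,11,8,5,0,1] 17 pwZ 145800 600 = true := by decide +kernel

theorem pe243 : Big.powEndOK data [8,5,0,1,2,3,4] 9 10 pwE 145800 600 = true := by decide +kernel

theorem rel244 : allRange 146400 600 nodeRel = true := by decide +kernel

theorem pz244 : data.powOK [6,4,1,9,7,3,2,1,10,11,8,5,0,1] 17 pwZ 146400 600 = true := by decide +kernel

theorem pe244 : Big.powEndOK data [8,5,0,1,2,3,4] 9 10 pwE 146400 600 = true := by decide +kernel

theorem rel245 : allRange 147000 600 nodeRel = true := by decide +kernel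

theorem pz245 : data.powOK [6,4,1,9,7,3,2,1,10,11,8,5,0,1] 17 pwZ 147000 600 = true := by decide +kernel

theorem pe245 : Big.powEndOK data [8,5,0,1,2,3,4] 9 10 pwE 147000 600 = true := by decide +kernel

theorem rel246 : allRange 147600 600 nodeRel = true := by decide +kernel

theorem pz246 : data.powOK [6,4,1,9,7,3,2,1,10,11,8,5,0,1] 17 pwZ 147600 600 = true := by decide +kernel

theorem pe246 : Big.powEndOK data [8,5,0,1,2,3,4] 9 10 pwE 147600 600 = true := by decide +kernel

theorem rel247 : allRange 148200 600 nodeRel = true := by decide +kernel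

theorem pz247 : data.powOK [6,4,1,9,7,3,2,1,10,11,8,5,0,1] 17 pwZ 148200 600 = true := by decide +kernel

theorem pe247 : Big.powEndOK data [8,5,0,1,2,3,4] 9 10 pwE 148200 600 = true := by decide +kernel

theorem rel248 : allRange 148800 600 nodeRel = true := by decide +kernel

theorem pz248 : data.powOK [6,4,1,9,7,3,2,1,10,11,8,5,0,1] 17 pwZ 148800 600 = true := by decide +kernel

theorem pe248 : Big.powEndOK data [8,5,0,1,2,3,4] 9 10 pwE 148800 600 = true := by decide +kernel

theorem rel249 : allRange 149400 600 nodeRel = true := by decide +kernel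

theorem pz249 : data.powOK [6,4,1,9,7,3,2,1,10,11,8,5,0,1] 17 pwZ 149400 600 = true := by decide +kernel

theorem pe249 : Big.powEndOK data [8,5,0,1,2,3,4] 9 10 pwE 149400 600 = true := by decide +kernel

theorem rel250 : allRange 150000 600 nodeRel = true := by decide +kernel

theorem pz250 : data.powOK [6,4,1,9,7,3,2,1,10,11,8,5,0,1] 17 pwZ 150000 600 = true := by decide +kernel

theorem pe250 : Big.powEndOK data [8,5,0,1,2,3,4] 9 10 pwE 150000 600 = true := by decide +kernel

theorem rel251 : allRange 150600 600 nodeRel = true := by decide +kernel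

theorem pz251 : data.powOK [6,4,1,9,7,3,2,1,10,11,8,5,0,1] 17 pwZ 150600 600 = true := by decide +kernel

theorem pe251 : Big.powEndOK data [8,5,0,1,2,3,4] 9 10 pwE 150600 600 = true := by decide +kernel

theorem rel252 : allRange 151200 600 nodeRel = true := by decide +kernel

theorem pz252 : data.powOK [6,4,1,9,7,3,2,1,10,11,8,5,0,1] 17 pwZ 151200 600 = true := by decide +kernel

theorem pe252 : Big.powEndOK data [8,5,0,1,2,3,4] 9 10 pwE 151200 600 = true := by decide +kernel

theorem rel253 : allRange 151800 600 nodeRel = true := by decide +kernel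

theorem pz253 : data.powOK [6,4,1,9,7,3,2,1,10,11,8,5,0,1] 17 pwZ 151800 600 = true := by decide +kernel

theorem pe253 : Big.powEndOK data [8,5,0,1,2,3,4] 9 10 pwE 151800 600 = true := by decide +kernel

theorem rel254 : allRange 152400 600 nodeRel = true := by decide +kernel

theorem pz254 : data.powOK [6,4,1,9,7,3,2,1,10,11,8,5,0,1] 17 pwZ 152400 600 = true := by decide +kernel

theorem pe254 : Big.powEndOK data [8,5,0,1,2,3,4] 9 10 pwE 152400 600 = true := by decide +kernel

theorem rel255 : allRange 153000 600 nodeRel = true := by decide +kernel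

theorem pz255 : data.powOK [6,4,1,9,7,3,2,1,10,11,8,5,0,1] 17 pwZ 153000 600 = true := by decide +kernel

theorem pe255 : Big.powEndOK data [8,5,0,1,2,3,4] 9 10 pwE 153000 600 = true := by decide +kernel

end H47.Fi24.Tab
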