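import Cfsg.Agent.H47.Fi24.Tab.RelDef

/-!
Checks of the relators (generated).
-/

set_option autoImplicit false
set_option maxRecDepth 100000
set_option linter.all false
set_option Elab.async false

namespace H47.Fi24.Tab

open H93.Coset

theorem rel480 : allRange 288000 600 nodeRel = true := by decide +kernel

theorem pz480 : data.powOK [6,4,1,9,7,3,2,1,10,11,8,5,0,1] 17 pwZ 288000 600 = true := by decide +kernel

theorem pe480 : Big.powEndOK data [8,5,0,1,2,3,4] 9 10 pwE 288000 600 = true := by decide +kernel

theorem rel481 : allRange 288600 600 nodeRel = true := by decide +kernel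

theorem pz481 : data.powOK [6,4,1,9,7,3,2,1,10,11,8,5,0,1] 17 pwZ 288600 600 = true := by decide +kernel

theorem pe481 : Big.powEndOK data [8,5,0,1,2,3,4] 9 10 pwE 288600 600 = true := by decide +kernel

theorem rel482 : allRange 289200 600 nodeRel = true := by decide +kernel

theorem pz482 : data.powOK [6,4,1,9,7,3,2,1,10,11,8,5,0,1] 17 pwZ 289200 600 = true := by decide +kernel

theorem pe482 : Big.powEndOK data [8,5,0,1,2,3,4] 9 10 pwE 289200 600 = true := by decide +kernel

theorem rel483 : allRange 289800 600 nodeRel = true := by decide +kernel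

theorem pz483 : data.powOK [6,4,1,9,7,3,2,1,10,11,8,5,0,1] 17 pwZ 289800 600 = true := by decide +kernel

theorem pe483 : Big.powEndOK data [8,5,0,1,2,3,4] 9 10 pwE 289800 600 = true := by decide +kernel

theorem rel484 : allRange 290400 600 nodeRel = true := by decide +kernel

theorem pz484 : data.powOK [6,4,1,9,7,3,2,1,10,11,8,5,0,1] 17 pwZ 290400 600 = true := by decide +kernel

theorem pe484 : Big.powEndOK data [8,5,0,1,2,3,4] 9 10 pwE 290400 600 = true := by decide +kernel

theorem rel485 : allRange 291000 600 nodeRel = true := by decide +kernel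

theorem pz485 : data.powOK [6,4,1,9,7,3,2,1,10,11,8,5,0,1] 17 pwZ 291000 600 = true := by decide +kernel

theorem pe485 : Big.powEndOK data [8,5,0,1,2,3,4] 9 10 pwE 291000 600 = true := by decide +kernel

theorem rel486 : allRange 291600 600 nodeRel = true := by decide +kernel

theorem pz486 : data.powOK [6,4,1,9,7,3,2,1,10,11,8,5,0,1] 17 pwZ 291600 600 = true := by decide +kernel

theorem pe486 : Big.powEndOK data [8,5,0,1,2,3,4] 9 10 pwE 291600 600 = true := by decide +kernel

theorem rel487 : allRange 292200 600 nodeRel = true := by decide +kernel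

theorem pz487 : data.powOK [6,4,1,9,7,3,2,1,10,11,8,5,0,1] 17 pwZ 292200 600 = true := by decide +kernel

theorem pe487 : Big.powEndOK data [8,5,0,1,2,3,4] 9 10 pwE 292200 600 = true := by decide +kernel

theorem rel488 : allRange 292800 600 nodeRel = true := by decide +kernel

theorem pz488 : data.powOK [6,4,1,9,7,3,2,1,10,11,8,5,0,1] 17 pwZ 292800 600 = true := by decide +kernel

theorem pe488 : Big.powEndOK data [8,5,0,1,2,3,4] 9 10 pwE 292800 600 = true := by decide +kernel

theorem rel489 : allRange 293400 600 nodeRel = true := by decide +kernel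

theorem pz489 : data.powOK [6,4,1,9,7,3,2,1,10,11,8,5,0,1] 17 pwZ 293400 600 = true := by decide +kernel

theorem pe489 : Big.powEndOK data [8,5,0,1,2,3,4] 9 10 pwE 293400 600 = true := by decide +kernel

theorem rel490 : allRange 294000 600 nodeRel = true := by decide +kernel

theorem pz490 : data.powOK [6,4,1,9,7,3,2,1,10,11,8,5,0,1] 17 pwZ 294000 600 = true := by decide +kernel

theorem pe490 : Big.powEndOK data [8,5,0,1,2,3,4] 9 10 pwE 294000 600 = true := by decide +kernel

theorem rel491 : allRange 294600 600 nodeRel = true := by decide +kernel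

theorem pz491 : data.powOK [6,4,1,9,7,3,2,1,10,11,8,5,0,1] 17 pwZ 294600 600 = true := by decide +kernel

theorem pe491 : Big.powEndOK data [8,5,0,1,2,3,4] 9 10 pwE 294600 600 = true := by decide +kernel

theorem rel492 : allRange 295200 600 nodeRel = true := by decide +kernel

theorem pz492 : data.powOK [6,4,1,9,7,3,2,1,10,11,8,5,0,1] 17 pwZ 295200 600 = true := by decide +kernel

theorem pe492 : Big.powEndOK data [8,5,0,1,2,3,4] 9 10 pwE 295200 600 = true := by decide +kernel

theorem rel493 : allRange 295800 600 nodeRel = true := by decide +kernel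

theorem pz493 : data.powOK [6,4,1,9,7,3,2,1,10,11,8,5,0,1] 17 pwZ 295800 600 = true := by decide +kernel

theorem pe493 : Big.powEndOK data [8,5,0,1,2,3,4] 9 10 pwE 295800 600 = true := by decide +kernel

theorem rel494 : allRange 296400 600 nodeRel = true := by decide +kernel

theorem pz494 : data.powOK [6,4,1,9,7,3,2,1,10,11,8,5,0,1] 17 pwZ 296400 600 = true := by decide +kernel

theorem pe494 : Big.powEndOK data [8,5,0,1,2,3,4] 9 10 pwE 296400 600 = true := by decide +kernel

theorem rel495 : allRange 297000 600 nodeRel = true := by decide +kernel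

theorem pz495 : data.powOK [6,4,1,9,7,3,2,1,10,11,8,5,0,1] 17 pwZ 297000 600 = true := by decide +kernel

theorem pe495 : Big.powEndOK data [8,5,0,1,2,3,4] 9 10 pwE 297000 600 = true := by decide +kernel

end H47.Fi24.Tab
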